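import Cfsg.Agent.Characters.Induction
import Cfsg.Agent.Characters.Linear
import Cfsg.Agent.Characters.Generalized

/-!
# The two point end game of Bender's theorem: set-up

`t` is an involution, `A` an abelian subgroup regular on the conjugates of `t` and of order prime to
`C(t)`, and `N` normalises `A` and controls the conjugation of the non-identity elements of `A`.
The dual group of `A`, with the action of `N`, and the cocycle `n ↦ aPart n`.
-/

set_option autoImplicit false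

namespace CfsgLib.BenderHThree

open CfsgLib.Characters
open scoped ComplexConjugate

attribute [local instance high] Fintype.ofFinite

universe u

/-- The configuration of the end game. -/
structure Setup (G : Type u) [Group G] [Fintype G] where
  t : G
  A : Subgroup G
  N : Subgroup G
  ht : orderOf t = 2
  comm : ∀ a ∈ A, ∀ b ∈ A, a * b = b * a
  le : A ≤ N
  norm : ∀ n ∈ N, ∀ a ∈ A, n * a * n⁻¹ ∈ A
  cover : ∀ g : G, ∃ a ∈ A, g * t * g⁻¹ = a * t * a⁻¹
  free : ∀ a ∈ A, a * t = t * a → a = 1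
  coprime : Nat.Coprime (Nat.card A) (Nat.card (Subgroup.centralizer ({t} : Set G)))
  odd : Odd (Nat.card N)
  ti : ∀ x ∈ A, x ≠ 1 → ∀ g : G, g * x * g⁻¹ ∈ A → g ∈ N
  gen : Subgroup.closure {x : G | ∃ g : G, g * t * g⁻¹ = x} = ⊤

namespace Setup

variable {G : Type u} [Group G] [Fintype G] (S : Setup G)

theorem mem_centralizer_t {g : G} : g ∈ Subgroup.centralizer ({S.t} : Set G) ↔ g * S.t = S.t * g := by
  rw [Subgroup.mem_centralizer_singleton_iff]

theorem t_mul_t : S.t * S.t = 1 := by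
  have := pow_orderOf_eq_one S.t
  rwa [S.ht, pow_two] at this

theorem conj_inj {a b : G} (ha : a ∈ S.A) (hb : b ∈ S.A) (h : a * S.t * a⁻¹ = b * S.t * b⁻¹) :
    a = b := by
  have h1 : b⁻¹ * a = 1 := by
    refine S.free _ (mul_mem (inv_mem hb) ha) ?_
    calc b⁻¹ * a * S.t = b⁻¹ * (a * S.t * a⁻¹) * a := by group
      _ = S.t * (b⁻¹ * a) := by rw [h]; group
  exact (inv_mul_eq_one.1 h1).symm

/-- The element of `A` doing the work of `g` on `t`. -/
noncomputable def aPart (g : G) : S.A :=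
  ⟨(S.cover g).choose, (S.cover g).choose_spec.1⟩

theorem aPart_spec (g : G) : g * S.t * g⁻¹ = (S.aPart g : G) * S.t * (S.aPart g : G)⁻¹ :=
  (S.cover g).choose_spec.2

theorem aPart_eq {g : G} (a : S.A) (h : g * S.t * g⁻¹ = (a : G) * S.t * (a : G)⁻¹) :
    S.aPart g = a :=
  Subtype.ext (S.conj_inj (S.aPart g).2 a.2 ((S.aPart_spec g).symm.trans h))

theorem aPart_of_commute {g : G} (h : g * S.t = S.t * g) : S.aPart g = 1 := by
  refine S.aPart_eq 1 ?_
  rw [h]; simp

theorem aPart_coe (a : S.A) : S.aPart (a : G) = a := S.aPart_eq a rfl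

theorem aPart_one : S.aPart 1 = 1 := by
  refine S.aPart_eq 1 ?_
  simp

/-- Conjugation by an element of `N` on `A`. -/
def conjA (n : S.N) : S.A →* S.A where
  toFun a := ⟨(n : G) * a * (n : G)⁻¹, S.norm n n.2 a a.2⟩
  map_one' := Subtype.ext (by simp)
  map_mul' a b := Subtype.ext (by simp [mul_assoc])

@[simp] theorem conjA_coe (n : S.N) (a : S.A) : (S.conjA n a : G) = (n : G) * a * (n : G)⁻¹ := rfl

theorem conjA_surjective (n : S.N) : Function.Surjective (S.conjA n) := fun a =>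
  ⟨S.conjA n⁻¹ a, Subtype.ext (by simp [mul_assoc])⟩

theorem mul_comm_A (a b : S.A) : a * b = b * a := Subtype.ext (S.comm _ a.2 _ b.2)

theorem aPart_mul (n m : S.N) :
    S.aPart ((n * m : S.N) : G) = S.aPart (n : G) * S.conjA n (S.aPart (m : G)) := by
  refine S.aPart_eq _ ?_
  have hc : ((S.aPart (n : G) * S.conjA n (S.aPart (m : G)) : S.A) : G) =
      (n : G) * (S.aPart (m : G) : G) * (n : G)⁻¹ * (S.aPart (n : G) : G) := by
    rw [S.mul_comm_A]; rfl
  rw [hc, Subgroup.coe_mul]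
  calc (n : G) * m * S.t * ((n : G) * m)⁻¹ = n * ((m : G) * S.t * (m : G)⁻¹) * (n : G)⁻¹ := by group
    _ = (n : G) * (S.aPart (m : G) : G) * (n : G)⁻¹ * ((n : G) * S.t * (n : G)⁻¹) *
        ((n : G) * (S.aPart (m : G) : G)⁻¹ * (n : G)⁻¹) := by rw [S.aPart_spec m]; group
    _ = _ := by rw [S.aPart_spec n]; group

/-! ### The dual group -/

/-- The irreducible characters of `A`. -/
abbrev Dual : Type u := Cfsg.IrrCharacter S.A

instance : IsMulCommutative S.A := ⟨⟨S.mul_comm_A⟩⟩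

theorem dual_one (ν : S.Dual) : (ν : S.A → ℂ) 1 = 1 := by
  obtain ⟨n, ρ, hρ, h⟩ := ν.2
  rw [← h, Representation.char_one,
    Representation.IsIrreducible.finrank_eq_one_of_isMulCommutative ρ, Nat.cast_one]

theorem dual_mul (ν : S.Dual) (a b : S.A) :
    (ν : S.A → ℂ) (a * b) = (ν : S.A → ℂ) a * (ν : S.A → ℂ) b := by
  obtain ⟨f, hf⟩ := exists_hom_of_degree_one (isCharacter_of_isIrr ν.2) (S.dual_one ν)
  simp [hf]

theorem dual_pow (ν : S.Dual) (a : S.A) (k : ℕ) :
    (ν : S.A → ℂ) (a ^ k) = (ν : S.A → ℂ) a ^ k := by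
  induction k with
  | zero => simp [S.dual_one]
  | succ k ih => rw [pow_succ, S.dual_mul, ih, pow_succ]

theorem dual_inv (ν : S.Dual) (a : S.A) : (ν : S.A → ℂ) a⁻¹ = conj ((ν : S.A → ℂ) a) :=
  character_inv (isCharacter_of_isIrr ν.2) a

/-- The principal character. -/
noncomputable def triv : S.Dual := ⟨fun _ => 1, isIrr_one⟩

@[simp] theorem triv_apply (a : S.A) : (S.triv : S.A → ℂ) a = 1 := rfl

/-- Twisting by an element of `N`. -/
noncomputable def tw (n : S.N) (ν : S.Dual) : S.Dual :=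
  ⟨fun a => (ν : S.A → ℂ) (S.conjA n a), isIrr_comp (S.conjA n) (S.conjA_surjective n) ν.2⟩

@[simp] theorem tw_apply (n : S.N) (ν : S.Dual) (a : S.A) :
    (S.tw n ν : S.A → ℂ) a = (ν : S.A → ℂ) (S.conjA n a) := rfl

theorem tw_tw (n m : S.N) (ν : S.Dual) : S.tw m (S.tw n ν) = S.tw (n * m) ν := by
  apply Subtype.ext; funext a
  simp only [tw_apply]
  refine congrArg (ν : S.A → ℂ) (Subtype.ext ?_)
  simp [mul_assoc]

@[simp] theorem tw_one (ν : S.Dual) : S.tw 1 ν = ν := by
  apply Subtype.ext; funext a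
  simp only [tw_apply]
  refine congrArg (ν : S.A → ℂ) (Subtype.ext ?_)
  simp

theorem tw_inv_tw (n : S.N) (ν : S.Dual) : S.tw n⁻¹ (S.tw n ν) = ν := by
  rw [S.tw_tw, mul_inv_cancel, S.tw_one]

theorem tw_tw_inv (n : S.N) (ν : S.Dual) : S.tw n (S.tw n⁻¹ ν) = ν := by
  rw [S.tw_tw, inv_mul_cancel, S.tw_one]

theorem tw_coe (a : S.A) (ν : S.Dual) : S.tw ⟨(a : G), S.le a.2⟩ ν = ν := by
  apply Subtype.ext; funext b
  simp only [tw_apply]
  refine congrArg (ν : S.A → ℂ) (Subtype.ext ?_)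
  exact (by rw [conjA_coe, S.comm _ a.2 _ b.2, mul_inv_cancel_right])

theorem tw_triv (n : S.N) : S.tw n S.triv = S.triv := Subtype.ext rfl

/-- The complex conjugate. -/
noncomputable def bar (ν : S.Dual) : S.Dual :=
  ⟨fun a => (ν : S.A → ℂ) a⁻¹, isIrr_comp
    ({ toFun := fun a => a⁻¹
       map_one' := inv_one
       map_mul' := fun a b => by rw [mul_inv_rev, S.mul_comm_A] } : S.A →* S.A)
    inv_surjective ν.2⟩

@[simp] theorem bar_apply (ν : S.Dual) (a : S.A) : (S.bar ν : S.A → ℂ) a = (ν : S.A → ℂ) a⁻¹ := rfl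

theorem bar_bar (ν : S.Dual) : S.bar (S.bar ν) = ν := by
  apply Subtype.ext; funext a; simp

theorem tw_bar (n : S.N) (ν : S.Dual) : S.tw n (S.bar ν) = S.bar (S.tw n ν) := by
  apply Subtype.ext; funext a
  simp [map_inv]

theorem sum_dual_mul_conj (a b : S.A) [Decidable (a = b)] :
    ∑ ν : S.Dual, (ν : S.A → ℂ) a * conj ((ν : S.A → ℂ) b) =
      if a = b then (Nat.card S.A : ℂ) else 0 := by
  rw [sum_irr_mul_conj]
  split_ifs with h
  · subst h
    congr 1
    exact Nat.card_congr (Equiv.subtypeUnivEquiv fun x => by rw [S.mul_comm_A, inv_mul_cancel_left])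
  · haveI : IsEmpty {x : S.A // x * a * x⁻¹ = b} :=
      ⟨fun x => h (by rw [← x.2, S.mul_comm_A x.1 a, mul_inv_cancel_right])⟩
    simp

/-! ### The complement `E = C_N(t)` -/

/-- The complement of `A` in `N`. -/
def E : Subgroup S.N := (Subgroup.centralizer ({S.t} : Set G)).subgroupOf S.N

theorem mem_E {n : S.N} : n ∈ S.E ↔ (n : G) * S.t = S.t * n := by
  rw [E, Subgroup.mem_subgroupOf, S.mem_centralizer_t]

theorem aPart_E {n : S.N} (h : n ∈ S.E) : S.aPart (n : G) = 1 := S.aPart_of_commute (S.mem_E.1 h)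

theorem ePart_mem (n : S.N) : ⟨(S.aPart (n : G) : G), S.le (S.aPart (n : G)).2⟩⁻¹ * n ∈ S.E := by
  rw [S.mem_E]
  have h := S.aPart_spec (n : G)
  show ((S.aPart (n : G) : G)⁻¹ * n) * S.t = S.t * ((S.aPart (n : G) : G)⁻¹ * n)
  calc ((S.aPart (n : G) : G)⁻¹ * n) * S.t
      = (S.aPart (n : G) : G)⁻¹ * ((n : G) * S.t * (n : G)⁻¹) * n := by group
    _ = S.t * ((S.aPart (n : G) : G)⁻¹ * n) := by rw [h]; group

/-- `N = A E`. -/
noncomputable def split : S.A × S.E ≃ S.N where
  toFun p := ⟨(p.1 : G), S.le p.1.2⟩ * (p.2 : S.N)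
  invFun n := (S.aPart (n : G), ⟨_, S.ePart_mem n⟩)
  left_inv p := by
    have h : S.aPart ((⟨(p.1 : G), S.le p.1.2⟩ * (p.2 : S.N) : S.N) : G) = p.1 := by
      rw [S.aPart_mul, S.aPart_E p.2.2, map_one, mul_one]
      exact S.aPart_coe p.1
    refine Prod.ext h (Subtype.ext (Subtype.ext ?_))
    have h' : ((S.aPart ((p.1 : G) * ((p.2 : S.N) : G))) : G) = p.1 := congrArg Subtype.val h
    show ((S.aPart ((p.1 : G) * ((p.2 : S.N) : G))) : G)⁻¹ * ((p.1 : G) * ((p.2 : S.N) : G)) = _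
    rw [h', inv_mul_cancel_left]
  right_inv n := Subtype.ext (by
    show (S.aPart (n : G) : G) * ((S.aPart (n : G) : G)⁻¹ * n) = n
    rw [mul_inv_cancel_left])

theorem card_N : Nat.card S.N = Nat.card S.A * Nat.card S.E := by
  rw [← Nat.card_congr S.split, Nat.card_prod]

theorem aPart_split (a : S.A) (e : S.E) : S.aPart ((S.split (a, e) : S.N) : G) = a :=
  congrArg Prod.fst (S.split.symm_apply_apply (a, e))

theorem tw_split (a : S.A) (e : S.E) (ν : S.Dual) : S.tw (S.split (a, e)) ν = S.tw (e : S.N) ν := by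
  show S.tw (⟨(a : G), S.le a.2⟩ * (e : S.N)) ν = _
  rw [← S.tw_tw, S.tw_coe]

theorem tw_ePart (n : S.N) (ν : S.Dual) : S.tw n ν = S.tw ((S.split.symm n).2 : S.N) ν := by
  conv_lhs => rw [← S.split.apply_symm_apply n]
  exact S.tw_split _ _ ν

theorem coprime_E : Nat.Coprime (Nat.card S.A) (Nat.card S.E) := by
  refine S.coprime.coprime_dvd_right ?_
  rw [← Subgroup.card_map_of_injective (f := S.N.subtype) (Subgroup.subtype_injective _)]
  exact Subgroup.card_dvd_of_le fun x ⟨y, hy, hxy⟩ => hxy ▸ Subgroup.mem_subgroupOf.1 hy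

theorem odd_A : Odd (Nat.card S.A) := by
  have h := S.odd
  rw [S.card_N, Nat.odd_mul] at h
  exact h.1

theorem odd_E : Odd (Nat.card S.E) := by
  have h := S.odd
  rw [S.card_N, Nat.odd_mul] at h
  exact h.2

end Setup

end CfsgLib.BenderHThree
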