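import Cfsg.Agent.BenderHThree.Perm
import Cfsg.Agent.Characters.Burnside

/-!
# The isometry argument: the constituent over a character of `A` depends only on its stabiliser
-/

set_option autoImplicit false

namespace CfsgLib.BenderHThree

open CfsgLib.Characters
open scoped ComplexConjugate

attribute [local instance high] Fintype.ofFinite

universe u

namespace Setup

variable {G : Type u} [Group G] [Fintype G] (S : Setup G)

/-- An involution has a nonzero value on a character of odd degree. -/
theorem char_t_ne_zero {V : Type u} [AddCommGroup V] [Module ℂ V] [FiniteDimensional ℂ V]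
    (ρ : Representation ℂ G V) (hodd : Odd (Module.finrank ℂ V)) : ρ.character S.t ≠ 0 := by
  obtain ⟨μ, hμ, hj, -⟩ := exists_eigenvalues ρ S.t
  have h1 : ρ.character S.t = ∑ i, μ i := by simpa using hj 1
  have hi : ∀ i, ∃ k : ℤ, μ i = 1 - 2 * (k : ℂ) := by
    intro i
    have h2 := hμ i
    rw [S.ht] at h2
    rcases sq_eq_one_iff.1 h2 with h | h
    · exact ⟨0, by rw [h]; simp⟩
    · exact ⟨1, by rw [h]; norm_num⟩
  choose k hk using hi
  intro h0
  have h3 : ((Module.finrank ℂ V : ℤ) : ℂ) = ((2 * ∑ i, k i : ℤ) : ℂ) := by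
    rw [h1] at h0
    simp only [hk, Finset.sum_sub_distrib, Finset.sum_const, Finset.card_univ, Fintype.card_fin,
      nsmul_eq_mul, mul_one, ← Finset.mul_sum] at h0
    push_cast
    linear_combination h0
  have h4 : (Module.finrank ℂ V : ℤ) = 2 * ∑ i, k i := by exact_mod_cast h3
  have h5 : Even (Module.finrank ℂ V : ℤ) := ⟨∑ i, k i, by rw [h4]; ring⟩
  exact (Nat.not_even_iff_odd.2 hodd) ((Int.even_coe_nat _).1 h5)

theorem index_centralizer : (Subgroup.centralizer ({S.t} : Set G)).index = Nat.card S.A := by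
  rw [← S.stabilizer_pt, MulAction.index_stabilizer_of_transitive, S.card_Pts]

theorem card_orb_dvd (lam : S.Dual) : Nat.card (S.orb lam) ∣ Nat.card S.E := by
  classical
  refine ⟨Nat.card {e : S.E // S.tw (e : S.N) lam = lam}, ?_⟩
  have hf : ∀ ν : S.orb lam, ∃ e : S.E, S.tw (e : S.N) lam = ν.1 := by
    intro ν
    obtain ⟨n, hn⟩ := ν.2
    exact ⟨_, (S.tw_ePart n lam).symm.trans hn⟩
  choose f hf using hf
  rw [← Nat.card_prod]
  refine (Nat.card_congr (Equiv.ofBijective (fun p => p.2.1 * f p.1) ⟨?_, ?_⟩)).symm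
  · rintro ⟨ν, e⟩ ⟨ν', e'⟩ he
    have hν : ν = ν' := by
      have h2 := congrArg (fun x : S.E => S.tw (x : S.N) lam) he
      simp only [Subgroup.coe_mul, ← S.tw_tw, e.2, e'.2, hf] at h2
      exact Subtype.ext h2
    subst hν
    exact Prod.ext rfl (Subtype.ext (mul_right_cancel he))
  · intro x
    let ν : S.orb lam := ⟨S.tw (x : S.N) lam, (x : S.N), rfl⟩
    refine ⟨(ν, ⟨x * (f ν)⁻¹, ?_⟩), by simp⟩
    rw [Subgroup.coe_mul, ← S.tw_tw, Subgroup.coe_inv, show S.tw (x : S.N) lam = ν.1 from rfl, ← hf ν,
      S.tw_inv_tw]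

/-- If the constituent over `lam` restricts to the orbit character, then `lam` is principal. -/
theorem eq_triv_of_restrict (χ : Cfsg.IrrCharacter G) (lam : S.Dual)
    (hres : ∀ n : S.N, (χ : G → ℂ) (n : G) = S.theta lam n) : lam = S.triv := by
  classical
  obtain ⟨d, ρ, hρ, hχ⟩ := χ.2
  have hd : ρ.character 1 = (Nat.card (S.orb lam) : ℂ) := by
    rw [hχ, ← Subgroup.coe_one S.N, hres, S.theta_one]
  have hrank : Module.finrank ℂ (Fin d → ℂ) = Nat.card (S.orb lam) := by
    rw [Representation.char_one] at hd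
    exact_mod_cast hd
  have hcop : Nat.Coprime (Module.finrank ℂ (Fin d → ℂ)) (Subgroup.centralizer ({S.t} : Set G)).index := by
    rw [hrank, S.index_centralizer]
    exact (S.coprime_E.coprime_dvd_right (S.card_orb_dvd lam)).symm
  have hodd : Odd (Nat.card (S.orb lam)) := S.odd_E.of_dvd_nat (S.card_orb_dvd lam)
  obtain ⟨i, a', b', hb⟩ : ∃ ω : ℂ, ρ S.t = ω • LinearMap.id ∧ ω ^ 2 = 1 ∧ True := by
    rcases char_zero_or_norm_of_coprime ρ S.t hcop with h | h
    · exfalso
      let e : (Fin d → ℂ) ≃ₗ[ℂ] ULift.{u} (Fin d → ℂ) := ULift.moduleEquiv.symm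
      exact S.char_t_ne_zero (transport ρ e) (by
        rw [← e.finrank_eq, hrank]; exact hodd) (by rw [char_transport]; exact h)
    · obtain ⟨ω, hω, -⟩ := exists_scalar_of_norm_char_eq ρ S.t h
      refine ⟨ω, hω, ?_, trivial⟩
      have h2 : ρ S.t * ρ S.t = 1 := by rw [← map_mul, S.t_mul_t, map_one]
      rw [hω] at h2
      have hd0 : 0 < d := by
        have h3 : 0 < Nat.card (S.orb lam) := hodd.pos
        rw [← hrank, Module.finrank_fin_fun] at h3
        exact h3
      have h4 := congrArg (fun T : (Fin d → ℂ) →ₗ[ℂ] (Fin d → ℂ) => T (fun _ => 1) ⟨0, hd0⟩) h2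
      simpa [sq] using h4
  -- every element acts as `±1`
  let K : Subgroup G :=
    { carrier := {g | ρ g = LinearMap.id ∨ ρ g = -LinearMap.id}
      one_mem' := Or.inl (map_one ρ)
      mul_mem' := by
        rintro g k (h | h) (h' | h')
        all_goals
          show ρ (g * k) = LinearMap.id ∨ ρ (g * k) = -LinearMap.id
          rw [map_mul, h, h']
        · exact Or.inl (by ext; simp)
        · exact Or.inr (by ext; simp)
        · exact Or.inr (by ext; simp)
        · exact Or.inl (by ext; simp)
      inv_mem' := by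
        intro g hg
        have h1 : ρ g⁻¹ * ρ g = 1 := by rw [← map_mul, inv_mul_cancel, map_one]
        rcases hg with h | h
        · rw [h] at h1; exact Or.inl h1
        · rw [h] at h1
          refine Or.inr (neg_eq_iff_eq_neg.1 ?_)
          rw [show (LinearMap.id : (Fin d → ℂ) →ₗ[ℂ] (Fin d → ℂ)) = (1 : Module.End ℂ (Fin d → ℂ)) from rfl, ← h1]
          ext; simp }
  have hK : K = ⊤ := by
    refine top_unique (S.gen ▸ (Subgroup.closure_le K).2 ?_)
    rintro x ⟨g, rfl⟩
    show ρ (g * S.t * g⁻¹) = LinearMap.id ∨ ρ (g * S.t * g⁻¹) = -LinearMap.id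
    have h3 : ρ (g * S.t * g⁻¹) = i • LinearMap.id := by
      rw [map_mul, map_mul, a', show (i • LinearMap.id : (Fin d → ℂ) →ₗ[ℂ] (Fin d → ℂ)) = i • 1 from rfl,
        mul_smul_comm, mul_one, smul_mul_assoc, ← map_mul, mul_inv_cancel, map_one]
    rcases sq_eq_one_iff.1 b' with h | h <;> rw [h3, h]
    · exact Or.inl (one_smul _ _)
    · exact Or.inr (by ext; simp)
  have hA : ∀ a : S.A, ρ (a : G) = LinearMap.id := by
    intro a
    rcases (show (a : G) ∈ K from hK ▸ Subgroup.mem_top _) with h | h
    · exact h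
    · have h1 : ρ ((a : G) ^ Nat.card S.A) = 1 := by
        rw [← Subgroup.coe_pow, pow_card_eq_one', Subgroup.coe_one, map_one]
      rw [map_pow, h] at h1
      have h2 : (-1 : Module.End ℂ (Fin d → ℂ)) ^ Nat.card S.A = 1 := h1
      obtain ⟨k, hk⟩ := S.odd_A
      have h4 : (-1 : Module.End ℂ (Fin d → ℂ)) * -1 = 1 := by ext; simp
      rw [hk, pow_succ, pow_mul, sq, h4, one_pow, one_mul] at h2
      rw [h]; exact h2
  have hθ : ∀ a : S.A, S.theta lam (S.inclA a) = (Nat.card (S.orb lam) : ℂ) := by
    intro a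
    rw [← hres, show ((S.inclA a : S.N) : G) = (a : G) from rfl, ← hχ, Representation.character, hA,
      ← LinearMap.trace_id ℂ (Fin d → ℂ) |>.symm, hrank]
  by_contra hne
  have h0 : S.triv ∉ S.orb lam := by
    rintro ⟨n, hn⟩
    exact hne (by rw [← S.tw_inv_tw n lam, hn, S.tw_triv])
  have h1 := S.classInner_theta_A lam S.triv
  rw [if_neg h0] at h1
  simp only [Cfsg.classInner, hθ, triv_apply, map_one, mul_one, Finset.sum_const, Finset.card_univ,
    nsmul_eq_mul, ← Nat.card_eq_fintype_card] at h1
  rcases mul_eq_zero.1 h1 with h | h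
  · exact Nat.card_pos.ne' (Nat.cast_eq_zero.1 (inv_eq_zero.1 h))
  · rcases mul_eq_zero.1 h with h | h
    · exact Nat.card_pos.ne' (Nat.cast_eq_zero.1 h)
    · exact hodd.pos.ne' (Nat.cast_eq_zero.1 h)

/-- The function vanishing off the elements with nontrivial part in `A`. -/
theorem indFun_restrict (β : S.N → ℂ) (hcl : Cfsg.IsClassFunction S.N β)
    (h0 : ∀ n : S.N, n ^ Nat.card S.E = 1 → β n = 0) (n : S.N) :
    Cfsg.indFun S.N β (n : G) = β n := by
  classical
  by_cases hn : n ^ Nat.card S.E = 1
  · rw [h0 n hn]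
    refine indFun_eq_zero' ?_
    intro x hx
    refine h0 _ (Subtype.ext ?_)
    rw [Subgroup.coe_pow, Subgroup.coe_one]
    have h1 : (n : G) ^ Nat.card S.E = 1 := by rw [← Subgroup.coe_pow, hn, Subgroup.coe_one]
    show (x⁻¹ * n * x) ^ Nat.card S.E = 1
    rw [show x⁻¹ * (n : G) * x = x⁻¹ * n * x⁻¹⁻¹ by rw [inv_inv], conj_pow, h1, mul_one, mul_inv_cancel]
  · have hterm : ∀ x : G, Cfsg.extendByZero S.N β (x⁻¹ * (n : G) * x) =
        if x ∈ S.N then β n else 0 := by
      intro x
      split_ifs with hx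
      · rw [extendByZero_of_mem S.N β (mul_mem (mul_mem (inv_mem hx) n.2) hx)]
        have h := hcl n (⟨x, hx⟩ : S.N)⁻¹
        rw [inv_inv] at h
        exact h
      · by_cases hy : x⁻¹ * (n : G) * x ∈ S.N
        · rw [extendByZero_of_mem S.N β hy]
          by_contra hne
          have hy1 : (⟨_, hy⟩ : S.N) ^ Nat.card S.E ≠ 1 := fun e => hne (h0 _ e)
          refine hx ?_
          have ha : ((n ^ Nat.card S.E : S.N) : G) ≠ 1 := fun e => hn (Subtype.ext e)
          have hb := S.pow_card_E_mem ⟨_, hy⟩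
          rw [Subgroup.coe_pow] at hb
          have hb' : (x⁻¹ * (n : G) * x⁻¹⁻¹) ^ Nat.card S.E ∈ S.A := by rw [inv_inv]; exact hb
          rw [conj_pow, ← Subgroup.coe_pow] at hb'
          have := inv_mem (S.ti _ (S.pow_card_E_mem n) ha x⁻¹ hb')
          rwa [inv_inv] at this
        · exact extendByZero_of_not_mem S.N β hy
    simp only [Cfsg.indFun, hterm]
    rw [← Finset.sum_filter, Finset.sum_const, nsmul_eq_mul,
      show (Finset.univ.filter fun x : G => x ∈ S.N).card = Nat.card S.N by
        rw [Nat.card_eq_fintype_card, Fintype.card_subtype], ← mul_assoc,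
      inv_mul_cancel₀ (Nat.cast_ne_zero.2 Nat.card_pos.ne'), one_mul]
where
  indFun_eq_zero' {g : G} (h : ∀ x : G, ∀ hx : x⁻¹ * g * x ∈ S.N, β ⟨_, hx⟩ = 0) :
      Cfsg.indFun S.N β g = 0 := by
    simp only [Cfsg.indFun]
    rw [Finset.sum_eq_zero, mul_zero]
    intro x _
    by_cases hx : x⁻¹ * g * x ∈ S.N
    · rw [extendByZero_of_mem S.N β hx]; exact h x hx
    · exact extendByZero_of_not_mem S.N β hx

/-- **(C1)**: characters of `A` with the same stabiliser lie in the same constituent. -/
theorem const_eq (lam lam' : S.Dual) (h1 : lam ≠ S.triv)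
    (hst : ∀ n : S.N, S.tw n lam = lam ↔ S.tw n lam' = lam') : S.const lam = S.const lam' := by
  classical
  by_contra hne
  set β : S.N → ℂ := S.theta lam - S.theta lam' with hβ
  have hgen : Cfsg.IsGeneralizedCharacter S.N β :=
    isGen_sub (isGen_of_isCharacter (S.isCharacter_theta lam)) (isGen_of_isCharacter (S.isCharacter_theta lam'))
  have hcl := isClassFunction_of_isGen hgen
  have h0 : ∀ n : S.N, n ^ Nat.card S.E = 1 → β n = 0 := fun n hn => by
    rw [hβ, Pi.sub_apply, S.theta_eq_of_stab lam lam' hst n hn, sub_self]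
  set I := Cfsg.indFun S.N β with hI
  have hIgen : Cfsg.IsGeneralizedCharacter G I := isGen_indFun _ hgen
  have hres : (fun n : S.N => I (n : G)) = β := funext fun n => S.indFun_restrict β hcl h0 n
  have hnorb : lam' ∉ S.orb lam := by
    rintro ⟨n, hn⟩
    refine hne (S.eq_const (S.const_spec lam).1 ?_)
    show Cfsg.classInner (fun a : S.A => (S.const lam : G → ℂ) (a : G)) (lam' : S.A → ℂ) ≠ 0
    rw [← hn]
    have h2 := (S.const_spec lam).2
    refine fun e => h2 ?_
    rw [← e]
    simp only [Cfsg.classInner]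
    congr 1
    refine (Fintype.sum_bijective (S.conjA n) ((Finite.surjective_iff_bijective).1 (S.conjA_surjective n)) _ _ fun a => ?_).symm
    rw [tw_apply]
    congr 1
    exact (isClassFunction_of_isIrr (S.const lam).2 (a : G) (n : G)).symm
  have hII : Cfsg.classInner I I = 2 := by
    rw [hI, classInner_indFun _ _ (isClassFunction_indFun _ _), hres, hβ, classInner_sub_left,
      classInner_sub_right, classInner_sub_right, S.classInner_theta, S.classInner_theta,
      S.classInner_theta, S.classInner_theta, if_pos (S.self_mem_orb lam), if_neg hnorb,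
      if_neg (fun h => hnorb (by rw [S.orb_eq h]; exact S.self_mem_orb lam')),
      if_pos (S.self_mem_orb lam')]
    norm_num
  have hcoef : ∀ χ : Cfsg.IrrCharacter G, Cfsg.classInner S.perm (χ : G → ℂ) ≠ 0 →
      Cfsg.classInner I (χ : G → ℂ) =
        (if χ = S.const lam then 1 else 0) - (if χ = S.const lam' then 1 else 0) := by
    intro χ hχ
    rw [hI, classInner_indFun _ _ (isClassFunction_of_isIrr χ.2), hβ, classInner_sub_left,
      classInner_conj_symm, classInner_conj_symm _ (S.theta lam'), S.classInner_restrict χ hχ,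
      S.classInner_restrict χ hχ]
    split_ifs <;> simp
  obtain ⟨c, hc, hci⟩ := exists_int_coeff hIgen
  have hsq : ∑ χ, c χ ^ 2 = 2 := by
    have := (classInner_self_eq_sum_sq (isClassFunction_of_isGen hIgen) c hci).symm.trans hII
    exact_mod_cast this
  have hc1 : c (S.const lam) = 1 := by
    have := (hci _).symm.trans (hcoef _ (S.const_spec lam).1)
    rw [if_pos rfl, if_neg hne, sub_zero] at this
    exact_mod_cast this
  have hc2 : c (S.const lam') = -1 := by
    have := (hci _).symm.trans (hcoef _ (S.const_spec lam').1)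
    rw [if_pos rfl, if_neg (Ne.symm hne), zero_sub] at this
    exact_mod_cast this
  have hrest : ∀ χ, χ ≠ S.const lam → χ ≠ S.const lam' → c χ = 0 := by
    intro χ hχ hχ'
    have hle := Finset.sum_le_sum_of_subset_of_nonneg (f := fun χ => c χ ^ 2)
      (Finset.subset_univ ({S.const lam, S.const lam', χ} : Finset (Cfsg.IrrCharacter G))) fun _ _ _ => sq_nonneg _
    rw [Finset.sum_insert (by simp [hne, Ne.symm hχ]), Finset.sum_pair (Ne.symm hχ'), hsq, hc1, hc2] at hle
    exact pow_eq_zero_iff (n := 2) two_ne_zero |>.1 (le_antisymm (by linarith) (sq_nonneg _))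
  have hIeq : I = (S.const lam : G → ℂ) - (S.const lam' : G → ℂ) := by
    rw [hc, ← Finset.sum_subset (Finset.subset_univ ({S.const lam, S.const lam'} : Finset (Cfsg.IrrCharacter G)))
      (fun χ _ hχ => ?_), Finset.sum_pair hne, hc1, hc2]
    · simp [sub_eq_add_neg]
    · simp only [Finset.mem_insert, Finset.mem_singleton, not_or] at hχ
      rw [hrest χ hχ.1 hχ.2, Int.cast_zero, zero_smul]
  -- the restriction of the constituent over `lam`
  have hR := isCharacter_restrict S.N (isCharacter_of_isIrr (S.const lam).2)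
  have hR' := isCharacter_restrict S.N (isCharacter_of_isIrr (S.const lam').2)
  have hrestr : ∀ ψ : Cfsg.IrrCharacter S.N,
      Cfsg.classInner (fun n : S.N => (S.const lam : G → ℂ) (n : G)) (ψ : S.N → ℂ) =
        if ψ = S.thetaIrr lam then 1 else 0 := by
    intro ψ
    obtain ⟨a, ha⟩ := classInner_characters hR (isCharacter_of_isIrr ψ.2)
    obtain ⟨b, hb⟩ := classInner_characters hR' (isCharacter_of_isIrr ψ.2)
    have hd : (a : ℂ) - b = (if S.thetaIrr lam = ψ then 1 else 0) - (if S.thetaIrr lam' = ψ then 1 else 0) := by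
      rw [← ha, ← hb, ← classInner_sub_left, ← classInner_irr (S.thetaIrr lam) ψ, ← classInner_irr (S.thetaIrr lam') ψ,
        ← classInner_sub_left]
      refine congrArg (fun f => Cfsg.classInner f (ψ : S.N → ℂ)) (funext fun n => ?_)
      have := congrFun hres n
      rw [hIeq] at this
      exact this
    split_ifs with h
    · subst h
      rw [show ((S.thetaIrr lam : S.N → ℂ)) = S.theta lam from rfl, S.classInner_restrict _ (S.const_spec lam).1,
        if_pos rfl]
    · by_cases ha0 : a = 0
      · rw [ha, ha0, Nat.cast_zero]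
      exfalso
      by_cases hl : S.thetaIrr lam' = ψ
      · subst hl
        rw [show ((S.thetaIrr lam' : S.N → ℂ)) = S.theta lam' from rfl,
          S.classInner_restrict _ (S.const_spec lam).1, if_neg hne] at ha
        exact ha0 (by exact_mod_cast ha.symm)
      · rw [if_neg (Ne.symm h), if_neg hl, sub_zero, sub_eq_zero, Nat.cast_inj] at hd
        obtain ⟨μ, hμ⟩ := RegularRestriction.exists_below S.inclA ψ
        -- both constituents would contain `ψ`
        have key : ∀ ν : S.Dual, Cfsg.classInner (fun n : S.N => (S.const ν : G → ℂ) (n : G)) (ψ : S.N → ℂ) ≠ 0 →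
            RegularRestriction.Below S.A.subtype (S.const ν) μ := by
          intro ν hν
          obtain ⟨d, hdd⟩ := exists_nat_coeff (isCharacter_restrict S.N (isCharacter_of_isIrr (S.const ν).2))
          have hdψ : ∀ ψ : Cfsg.IrrCharacter S.N,
              Cfsg.classInner (fun n : S.N => (S.const ν : G → ℂ) (n : G)) (ψ : S.N → ℂ) = d ψ := fun ψ => by
            rw [hdd]; exact classInner_irr_coeff (fun ψ => (d ψ : ℂ)) ψ
          choose k hk using fun (φ : Cfsg.IrrCharacter S.N) => classInner_characters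
            (isCharacter_comp S.inclA (isCharacter_of_isIrr φ.2)) (isCharacter_of_isIrr μ.2)
          show Cfsg.classInner (fun a : S.A => (S.const ν : G → ℂ) (S.A.subtype a)) (μ : S.A → ℂ) ≠ 0
          rw [show (fun a : S.A => (S.const ν : G → ℂ) (S.A.subtype a)) =
              ∑ φ : Cfsg.IrrCharacter S.N, (d φ : ℂ) • (fun a : S.A => (φ : S.N → ℂ) (S.inclA a)) from funext fun a => by
            have := congrFun hdd (S.inclA a)
            simp only [Finset.sum_apply, Pi.smul_apply] at this ⊢
            exact this, classInner_sum_left]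
          simp only [classInner_smul_left, hk]
          have hpos : d ψ * k ψ ≠ 0 := mul_ne_zero (fun e => hν (by rw [hdψ, e, Nat.cast_zero]))
            (fun e => hμ (by rw [hk, e, Nat.cast_zero]))
          have : ∑ φ, d φ * k φ ≠ 0 := fun e => hpos ((Finset.sum_eq_zero_iff).1 e _ (Finset.mem_univ _))
          exact_mod_cast this
        have k1 := key lam (by rw [ha]; exact_mod_cast ha0)
        have k2 := key lam' (by rw [hb, ← hd]; exact_mod_cast ha0)
        exact hne ((S.eq_const (S.const_spec lam).1 k1).trans (S.eq_const (S.const_spec lam').1 k2).symm)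
  refine h1 (S.eq_triv_of_restrict (S.const lam) lam fun n => ?_)
  have h := congrFun (character_expansion hR) n
  simp only [hrestr, Finset.sum_apply, ite_smul, one_smul, zero_smul] at h
  rw [h, Finset.sum_eq_single (S.thetaIrr lam)]
  · rw [if_pos rfl]; rfl
  · intro ψ _ hψ; rw [if_neg hψ]; rfl
  · simp

end Setup

end CfsgLib.BenderHThree
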