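import Cfsg.Agent.BenderHThree.Isometry

/-!
# Orbitals: self-paired suborbits, and rank two when `E` acts freely

The eigenvalue of an orbital matrix is constant on each constituent of the permutation character.
-/

set_option autoImplicit false

namespace CfsgLib.BenderHThree

open CfsgLib.Characters
open scoped ComplexConjugate

attribute [local instance high] Fintype.ofFinite

universe u

namespace Setup

variable {G : Type u} [Group G] [Fintype G] (S : Setup G)

/-- The permutation representation. -/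
noncomputable def permRep : Representation ℂ G (S.Pts → ℂ) where
  toFun g :=
    { toFun := fun f x => f (g⁻¹ • x)
      map_add' := fun _ _ => rfl
      map_smul' := fun _ _ => rfl }
  map_one' := by
    refine LinearMap.ext fun f => funext fun x => ?_
    show f ((1 : G)⁻¹ • x) = f x
    rw [inv_one, one_smul]
  map_mul' g k := by
    refine LinearMap.ext fun f => funext fun x => ?_
    show f ((g * k)⁻¹ • x) = f (k⁻¹ • g⁻¹ • x)
    rw [mul_inv_rev, mul_smul]

@[simp] theorem permRep_apply (g : G) (f : S.Pts → ℂ) (x : S.Pts) :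
    S.permRep g f x = f (g⁻¹ • x) := rfl

theorem character_permRep : S.permRep.character = S.perm := by
  classical
  funext g
  rw [Representation.character, LinearMap.trace_eq_matrix_trace ℂ (Pi.basisFun ℂ _), Matrix.trace,
    perm]
  have h : ∀ x : S.Pts, Matrix.diag (LinearMap.toMatrix (Pi.basisFun ℂ S.Pts) (Pi.basisFun ℂ S.Pts) (S.permRep g)) x =
      if g • x = x then 1 else 0 := by
    intro x
    rw [Matrix.diag, LinearMap.toMatrix_apply, Pi.basisFun_repr, Pi.basisFun_apply, permRep_apply,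
      Pi.single_apply]
    exact if_congr (by rw [inv_smul_eq_iff, eq_comm]) rfl rfl
  rw [Finset.sum_congr rfl fun x _ => h x, Finset.sum_boole, Nat.card_eq_fintype_card]
  congr 1
  rw [← Fintype.card_subtype]
  exact Fintype.card_congr (Equiv.refl _)

/-- The orbital of `(t, z • t)`. -/
def Rel (z : S.A) (x y : S.Pts) : Prop := ∃ g : G, g • S.pt = x ∧ g • ((z : G) • S.pt) = y

theorem rel_smul (z : S.A) (g : G) {x y : S.Pts} (h : S.Rel z x y) : S.Rel z (g • x) (g • y) := by
  obtain ⟨k, rfl, rfl⟩ := h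
  exact ⟨g * k, mul_smul g k _, mul_smul g k _⟩

theorem rel_smul_iff (z : S.A) (g : G) (x y : S.Pts) : S.Rel z (g • x) (g • y) ↔ S.Rel z x y :=
  ⟨fun h => by simpa using S.rel_smul z g⁻¹ h, S.rel_smul z g⟩

theorem rel_self (z : S.A) : S.Rel z S.pt ((z : G) • S.pt) := ⟨1, one_smul _ _, one_smul _ _⟩

/-- The orbital operator. -/
noncomputable def orbOp (z : S.A) : (S.Pts → ℂ) →ₗ[ℂ] (S.Pts → ℂ) := by
  classical
  exact
  { toFun := fun f x => ∑ y, if S.Rel z x y then f y else 0
    map_add' := fun f f' => by funext x; simp only [Pi.add_apply, ← Finset.sum_add_distrib]; exact Finset.sum_congr rfl fun y _ => by split_ifs <;> simp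
    map_smul' := fun c f => by funext x; simp only [Pi.smul_apply, RingHom.id_apply, smul_eq_mul, Finset.mul_sum]; exact Finset.sum_congr rfl fun y _ => by split_ifs <;> simp }

theorem orbOp_apply (z : S.A) (f : S.Pts → ℂ) (x : S.Pts) [∀ y, Decidable (S.Rel z x y)] :
    S.orbOp z f x = ∑ y, if S.Rel z x y then f y else 0 := by
  simp only [orbOp]
  refine Finset.sum_congr rfl fun y _ => ?_
  split_ifs <;> rfl

theorem orbOp_comm (z : S.A) (g : G) (f : S.Pts → ℂ) :
    S.orbOp z (S.permRep g f) = S.permRep g (S.orbOp z f) := by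
  classical
  funext x
  rw [permRep_apply, S.orbOp_apply, S.orbOp_apply]
  refine Fintype.sum_bijective (fun y => g⁻¹ • y) (MulAction.bijective g⁻¹) _ _ fun y => ?_
  rw [permRep_apply]
  exact if_congr (S.rel_smul_iff z g⁻¹ x y).symm rfl rfl

/-- The label of a point. -/
noncomputable def label (x : S.Pts) : S.A := (S.exists_A_smul x).choose

theorem label_spec (x : S.Pts) : (S.label x : G) • S.pt = x := (S.exists_A_smul x).choose_spec

theorem label_smul (a : S.A) : S.label ((a : G) • S.pt) = a := S.smul_pt_inj (S.label_spec _)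

/-- The eigenvector of a character of `A`. -/
noncomputable def vec (μ : S.Dual) : S.Pts → ℂ := fun x => conj ((μ : S.A → ℂ) (S.label x))

theorem eq_smul_vec (μ : S.Dual) (f : S.Pts → ℂ)
    (hf : ∀ a : S.A, S.permRep (a : G) f = (μ : S.A → ℂ) a • f) : f = f S.pt • S.vec μ := by
  funext x
  have h := congrFun (hf (S.label x)⁻¹) S.pt
  rw [permRep_apply, Subgroup.coe_inv, inv_inv, S.label_spec, Pi.smul_apply, smul_eq_mul, S.dual_inv] at h
  rw [Pi.smul_apply, smul_eq_mul, h, vec, mul_comm]

/-- The eigenvalue of the orbital operator on a character of `A`. -/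
noncomputable def fhat (z : S.A) (μ : S.Dual) : ℂ := by
  classical exact ∑ b : S.A, if S.Rel z S.pt ((b : G) • S.pt) then conj ((μ : S.A → ℂ) b) else 0

theorem orbOp_vec (z : S.A) (μ : S.Dual) : S.orbOp z (S.vec μ) = S.fhat z μ • S.vec μ := by
  classical
  funext x
  obtain ⟨a, rfl⟩ := S.exists_A_smul x
  rw [S.orbOp_apply, Pi.smul_apply, smul_eq_mul, fhat, Finset.sum_mul]
  refine (Fintype.sum_bijective (fun b : S.A => ((a * b : S.A) : G) • S.pt) ⟨fun b b' h => ?_, fun y => ?_⟩ _ _ fun b => ?_).symm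
  · exact mul_left_cancel (S.smul_pt_inj h)
  · exact ⟨a⁻¹ * S.label y, by show ((a * (a⁻¹ * S.label y) : S.A) : G) • S.pt = y; rw [mul_inv_cancel_left, S.label_spec]⟩
  · have hiff : S.Rel z ((a : G) • S.pt) (((a * b : S.A) : G) • S.pt) ↔ S.Rel z S.pt ((b : G) • S.pt) := by
      rw [Subgroup.coe_mul, mul_smul]; exact S.rel_smul_iff z _ _ _
    by_cases h : S.Rel z S.pt ((b : G) • S.pt)
    · rw [if_pos h, if_pos (hiff.2 h)]
      simp only [vec, S.label_smul, S.dual_mul, map_mul]
      ring
    · rw [if_neg h, if_neg (fun e => h (hiff.1 e)), zero_mul]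

/-- An eigenvector inside a representation with a given constituent on `A`. -/
theorem exists_eigen {V : Type u} [AddCommGroup V] [Module ℂ V] [FiniteDimensional ℂ V]
    (σ : Representation ℂ G V) (μ : S.Dual)
    (h : Cfsg.classInner (fun a : S.A => σ.character (a : G)) (μ : S.A → ℂ) ≠ 0) :
    ∃ v : V, v ≠ 0 ∧ ∀ a : S.A, σ (a : G) v = (μ : S.A → ℂ) a • v := by
  let e : V →ₗ[ℂ] V := ∑ a : S.A, conj ((μ : S.A → ℂ) a) • σ (a : G)
  have htr : LinearMap.trace ℂ V e ≠ 0 := by
    intro h0
    refine h ?_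
    simp only [e, map_sum, map_smul, smul_eq_mul] at h0
    simp only [Cfsg.classInner, Representation.character]
    rw [Finset.sum_congr rfl fun a _ => mul_comm _ _, h0, mul_zero]
  obtain ⟨v, hv⟩ : ∃ v, e v ≠ 0 := by
    by_contra h'
    push Not at h'
    exact htr (by rw [show e = 0 from LinearMap.ext h', map_zero])
  refine ⟨e v, hv, fun b => ?_⟩
  simp only [e, LinearMap.sum_apply, LinearMap.smul_apply, map_sum, map_smul, Finset.smul_sum, smul_smul]
  refine Fintype.sum_bijective (fun a => b * a) (Group.mulLeft_bijective b) _ _ fun a => ?_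
  rw [← Module.End.mul_apply, ← map_mul, Subgroup.coe_mul, S.dual_mul, map_mul (starRingEnd ℂ), ← mul_assoc]
  congr 1
  have h1 : (μ : S.A → ℂ) b * conj ((μ : S.A → ℂ) b) = 1 := by
    rw [← S.dual_inv, ← S.dual_mul, mul_inv_cancel, S.dual_one]
  rw [h1, one_mul]

/-- Characters in the same constituent have the same eigenvalue. -/
theorem fhat_eq (z : S.A) (lam μ : S.Dual) (h : S.const lam = S.const μ) : S.fhat z lam = S.fhat z μ := by
  classical
  set c := S.fhat z lam with hc
  let W : Subrepresentation S.permRep :=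
    ⟨LinearMap.ker (S.orbOp z - c • LinearMap.id), fun g f hf => by
      rw [LinearMap.mem_ker, LinearMap.sub_apply, LinearMap.smul_apply, LinearMap.id_apply, sub_eq_zero] at hf ⊢
      rw [S.orbOp_comm, hf, map_smul]⟩
  have hmem : ∀ f : S.Pts → ℂ, f ∈ W.toSubmodule ↔ S.orbOp z f = c • f := fun f => by
    show f ∈ LinearMap.ker _ ↔ _
    rw [LinearMap.mem_ker, LinearMap.sub_apply, LinearMap.smul_apply, LinearMap.id_apply, sub_eq_zero]
  have hvl : S.vec lam ∈ W.toSubmodule := (hmem _).2 (S.orbOp_vec z lam)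
  obtain ⟨T, hT⟩ := exists_compl S.permRep W
  set ψ := W.toRepresentation.character with hψ
  set ψ' := T.toRepresentation.character with hψ'
  have hsum : S.perm = ψ + ψ' := by
    rw [← S.character_permRep, ← Representation.char_iso (prodEquivOfCompl S.permRep W T hT), char_prod]
  -- an eigenvector in an invariant subspace
  have heig : ∀ (U : Subrepresentation S.permRep) (ν : S.Dual),
      Cfsg.classInner (fun a : S.A => U.toRepresentation.character (a : G)) (ν : S.A → ℂ) ≠ 0 →
      S.vec ν ∈ U.toSubmodule := by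
    intro U ν hν
    obtain ⟨v, hv0, hv⟩ := S.exists_eigen U.toRepresentation ν hν
    have h1 : (v : S.Pts → ℂ) = (v : S.Pts → ℂ) S.pt • S.vec ν :=
      S.eq_smul_vec ν _ fun a => congrArg Subtype.val (hv a)
    have h2 : (v : S.Pts → ℂ) S.pt ≠ 0 := fun e => hv0 (Subtype.ext (by rw [h1, e, zero_smul]; rfl))
    have h3 := U.toSubmodule.smul_mem ((v : S.Pts → ℂ) S.pt)⁻¹ v.2
    rw [h1, smul_smul, Pi.smul_apply, smul_eq_mul] at h3
    rwa [show ((v : S.Pts → ℂ) S.pt * S.vec ν S.pt)⁻¹ * (v : S.Pts → ℂ) S.pt = 1 by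
      have h4 : S.vec ν S.pt = 1 := by
        have := S.label_smul 1
        rw [Subgroup.coe_one, one_smul] at this
        simp [vec, this, S.dual_one]
      rw [h4, mul_one, inv_mul_cancel₀ h2], one_smul] at h3
  have hψl : Cfsg.classInner (fun a : S.A => ψ (a : G)) (lam : S.A → ℂ) ≠ 0 := by
    intro h0
    have h1 := S.classInner_perm_A lam
    rw [hsum] at h1
    simp only [Pi.add_apply] at h1
    rw [show (fun a : S.A => ψ (a : G) + ψ' (a : G)) = (fun a : S.A => ψ (a : G)) + fun a : S.A => ψ' (a : G) from rfl,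
      classInner_add_left, h0, zero_add] at h1
    have h2 : S.vec lam ∈ T.toSubmodule := heig T lam (by rw [← hψ', h1]; exact one_ne_zero)
    have h3 := Submodule.disjoint_def.1 hT.disjoint _ hvl h2
    have h4 := congrFun h3 S.pt
    have := S.label_smul 1
    rw [Subgroup.coe_one, one_smul] at this
    simp [vec, this, S.dual_one] at h4
  have hψc : Cfsg.IsCharacter G ψ := isCharacter_character _
  have hψ'c : Cfsg.IsCharacter G ψ' := isCharacter_character _
  obtain ⟨d, hd⟩ := exists_nat_coeff hψc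
  obtain ⟨d', hd'⟩ := exists_nat_coeff hψ'c
  have hdχ : ∀ χ : Cfsg.IrrCharacter G, Cfsg.classInner ψ (χ : G → ℂ) = d χ := fun χ => by
    rw [hd]; exact classInner_irr_coeff (fun χ => (d χ : ℂ)) χ
  have hd'χ : ∀ χ : Cfsg.IrrCharacter G, Cfsg.classInner ψ' (χ : G → ℂ) = d' χ := fun χ => by
    rw [hd']; exact classInner_irr_coeff (fun χ => (d' χ : ℂ)) χ
  have hexp : ∀ ν : S.Dual, Cfsg.classInner (fun a : S.A => ψ (a : G)) (ν : S.A → ℂ) =
      ∑ χ : Cfsg.IrrCharacter G, (d χ : ℂ) * Cfsg.classInner (fun a : S.A => (χ : G → ℂ) (S.A.subtype a)) (ν : S.A → ℂ) := by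
    intro ν
    rw [show (fun a : S.A => ψ (a : G)) =
        ∑ χ : Cfsg.IrrCharacter G, (d χ : ℂ) • (fun a : S.A => (χ : G → ℂ) (S.A.subtype a)) from funext fun a => by
      have := congrFun hd (a : G)
      simp only [Finset.sum_apply, Pi.smul_apply] at this ⊢
      exact this, classInner_sum_left]
    simp only [classInner_smul_left]
  obtain ⟨χ, hχd, hχl⟩ : ∃ χ : Cfsg.IrrCharacter G, d χ ≠ 0 ∧ RegularRestriction.Below S.A.subtype χ lam := by
    by_contra hne
    push Not at hne
    refine hψl ?_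
    rw [hexp]
    refine Finset.sum_eq_zero fun χ _ => ?_
    by_cases h0 : d χ = 0
    · simp [h0]
    · have := hne χ h0
      simp only [RegularRestriction.Below, ne_eq, not_not] at this
      rw [this, mul_zero]
  have hχperm : Cfsg.classInner S.perm (χ : G → ℂ) ≠ 0 := by
    rw [hsum, classInner_add_left, hdχ, hd'χ, ← Nat.cast_add]
    exact_mod_cast fun h0 => hχd (Nat.eq_zero_of_add_eq_zero h0).1
  have hχμ : RegularRestriction.Below S.A.subtype χ μ := by
    rw [S.eq_const hχperm hχl, h]; exact (S.const_spec μ).2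
  have hψμ : Cfsg.classInner (fun a : S.A => ψ (a : G)) (μ : S.A → ℂ) ≠ 0 := by
    choose k hk using fun (χ : Cfsg.IrrCharacter G) => classInner_characters
      (isCharacter_comp S.A.subtype (isCharacter_of_isIrr χ.2)) (isCharacter_of_isIrr μ.2)
    rw [hexp]
    simp only [hk]
    have hpos : d χ * k χ ≠ 0 := mul_ne_zero hχd fun e => hχμ (by rw [hk, e, Nat.cast_zero])
    have : ∑ χ, d χ * k χ ≠ 0 := fun e => hpos ((Finset.sum_eq_zero_iff).1 e _ (Finset.mem_univ _))
    exact_mod_cast this
  have h5 := (hmem _).1 (heig W μ hψμ)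
  rw [S.orbOp_vec] at h5
  have h6 := congrFun h5 S.pt
  have := S.label_smul 1
  rw [Subgroup.coe_one, one_smul] at this
  simp [vec, this, S.dual_one] at h6
  exact h6.symm

theorem sum_fhat (z b : S.A) [Decidable (S.Rel z S.pt ((b : G) • S.pt))] :
    ∑ μ : S.Dual, S.fhat z μ * (μ : S.A → ℂ) b =
      if S.Rel z S.pt ((b : G) • S.pt) then (Nat.card S.A : ℂ) else 0 := by
  classical
  simp only [fhat, Finset.sum_mul]
  rw [Finset.sum_comm, Finset.sum_eq_single b]
  · split_ifs with h
    · have := S.sum_dual_mul_conj b b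
      rw [if_pos rfl] at this
      rw [← this]
      exact Finset.sum_congr rfl fun μ _ => mul_comm _ _
    · simp
  · intro c _ hc
    by_cases h : S.Rel z S.pt ((c : G) • S.pt)
    · simp only [if_pos h]
      have := S.sum_dual_mul_conj b c
      rw [if_neg (Ne.symm hc)] at this
      rw [← this]
      exact Finset.sum_congr rfl fun μ _ => mul_comm _ _
    · simp [if_neg h]
  · simp

theorem rel_eq_one {z b : S.A} (h : S.Rel z S.pt ((b : G) • S.pt)) (hb : b = 1) : z = 1 := by
  subst hb
  obtain ⟨g, h1, h2⟩ := h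
  rw [Subgroup.coe_one, one_smul] at h2
  refine S.smul_pt_inj (b := 1) ?_
  rw [Subgroup.coe_one, one_smul]
  exact MulAction.injective g (h2.trans h1.symm)

theorem bar_const (μ : S.Dual) : S.const (S.bar μ) = S.const μ := by
  by_cases h : μ = S.triv
  · subst h
    congr 1
  refine S.const_eq _ _ (fun e => h ?_) fun n => ?_
  · rw [← S.bar_bar μ, e]; exact Subtype.ext rfl
  · rw [S.tw_bar]
    exact ⟨fun e => by rw [← S.bar_bar (S.tw n μ), e, S.bar_bar], fun e => by rw [e]⟩

/-- **Every suborbit is self-paired**: some element interchanges `t` and `y t y⁻¹`. -/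
theorem exists_swap (z : S.A) : ∃ g : G, g • S.pt = (z : G) • S.pt ∧ g • ((z : G) • S.pt) = S.pt := by
  classical
  have h1 : S.Rel z S.pt (((z⁻¹ : S.A) : G) • S.pt) := by
    have hz := S.sum_fhat z z
    rw [if_pos (S.rel_self z)] at hz
    have hi := S.sum_fhat z z⁻¹
    by_contra hne
    rw [if_neg hne] at hi
    have e : ∑ μ : S.Dual, S.fhat z μ * (μ : S.A → ℂ) z = ∑ μ : S.Dual, S.fhat z μ * (μ : S.A → ℂ) z⁻¹ :=
      Fintype.sum_bijective S.bar (Function.Involutive.bijective S.bar_bar) _ _ fun μ => by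
        rw [S.fhat_eq z (S.bar μ) μ (S.bar_const μ), bar_apply, inv_inv]
    rw [hz, hi] at e
    exact Nat.card_pos.ne' (Nat.cast_eq_zero.1 e)
  obtain ⟨g, h2, h3⟩ := h1
  refine ⟨(z : G) * g, by rw [mul_smul, h2], ?_⟩
  rw [mul_smul, h3, Subgroup.coe_inv, smul_inv_smul]

/-- **Rank two**: if `E` centralises no non-identity element of `A`, the stabiliser of `t` is
transitive on the other conjugates. -/
theorem exists_transitive (hfree : ∀ e : S.N, e ∈ S.E → e ≠ 1 → ∀ a : S.A, S.conjA e a = a → a = 1)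
    (y z : S.A) (hy : y ≠ 1) (hz : z ≠ 1) :
    ∃ g : G, g • S.pt = S.pt ∧ g • ((y : G) • S.pt) = (z : G) • S.pt := by
  classical
  suffices S.Rel y S.pt ((z : G) • S.pt) from this
  -- a non-principal character has trivial stabiliser in `E`
  have hstab : ∀ μ : S.Dual, μ ≠ S.triv → ∀ e : S.E, S.tw (e : S.N) μ = μ → e = 1 := by
    intro μ hμ e he
    by_contra hne
    have hne' : (e : S.N) ≠ 1 := fun h => hne (Subtype.ext h)
    let c : S.A → S.A := fun a => S.conjA (e : S.N) a * a⁻¹
    have hinj : Function.Injective c := by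
      intro a b hab
      refine mul_inv_eq_one.1 (hfree _ e.2 hne' (a * b⁻¹) ?_)
      have hab' : S.conjA (e : S.N) a * a⁻¹ = S.conjA (e : S.N) b * b⁻¹ := hab
      rw [map_mul, map_inv]
      calc S.conjA (e : S.N) a * (S.conjA (e : S.N) b)⁻¹
          = (S.conjA (e : S.N) a * a⁻¹) * (a * (S.conjA (e : S.N) b)⁻¹) := by group
        _ = (S.conjA (e : S.N) b * b⁻¹) * (a * (S.conjA (e : S.N) b)⁻¹) := by rw [hab']
        _ = (a * (S.conjA (e : S.N) b)⁻¹) * (S.conjA (e : S.N) b * b⁻¹) := S.mul_comm_A _ _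
        _ = a * b⁻¹ := by group
    refine hμ (Subtype.ext (funext fun a => ?_))
    obtain ⟨b, rfl⟩ := (Finite.injective_iff_surjective.1 hinj) a
    show (μ : S.A → ℂ) (S.conjA (e : S.N) b * b⁻¹) = 1
    rw [S.dual_mul, ← S.tw_apply, he, ← S.dual_mul, mul_inv_cancel, S.dual_one]
  have hconst : ∀ μ μ' : S.Dual, μ ≠ S.triv → μ' ≠ S.triv → S.fhat y μ = S.fhat y μ' := by
    intro μ μ' hμ hμ'
    refine S.fhat_eq y μ μ' (S.const_eq μ μ' hμ fun n => ?_)
    rw [S.tw_ePart n μ, S.tw_ePart n μ']
    constructor <;> intro h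
    · rw [hstab μ hμ _ h]; exact S.tw_one μ'
    · rw [hstab μ' hμ' _ h]; exact S.tw_one μ
  -- so the orbital is constant off the identity
  have hval : ∀ b : S.A, b ≠ 1 → ∀ μ₀ : S.Dual, μ₀ ≠ S.triv →
      ∑ μ : S.Dual, S.fhat y μ * (μ : S.A → ℂ) b = S.fhat y S.triv - S.fhat y μ₀ := by
    intro b hb μ₀ hμ₀
    have h0 := S.sum_dual_mul_conj b 1
    rw [if_neg hb] at h0
    simp only [S.dual_one, map_one, mul_one] at h0
    calc ∑ μ : S.Dual, S.fhat y μ * (μ : S.A → ℂ) b
        = ∑ μ : S.Dual, (S.fhat y μ₀ * (μ : S.A → ℂ) b +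
            if μ = S.triv then S.fhat y S.triv - S.fhat y μ₀ else 0) := by
          refine Finset.sum_congr rfl fun μ _ => ?_
          split_ifs with h
          · subst h; simp
          · rw [hconst μ μ₀ h hμ₀, add_zero]
      _ = _ := by rw [Finset.sum_add_distrib, ← Finset.mul_sum, h0, mul_zero, zero_add, Finset.sum_ite_eq']; simp
  obtain ⟨μ₀, hμ₀⟩ : ∃ μ₀ : S.Dual, μ₀ ≠ S.triv := by
    by_contra hall
    push Not at hall
    have h1 := S.sum_dual_mul_conj y 1
    rw [if_neg hy] at h1
    rw [Finset.sum_eq_single S.triv (fun μ _ h => absurd (hall μ) h) (by simp)] at h1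
    simp at h1
  by_contra hne
  have e1 := S.sum_fhat y y
  rw [if_pos (S.rel_self y), hval y hy μ₀ hμ₀] at e1
  have e2 := S.sum_fhat y z
  rw [if_neg hne, hval z hz μ₀ hμ₀, e1] at e2
  exact Nat.card_pos.ne' (Nat.cast_eq_zero.1 e2)

end Setup

end CfsgLib.BenderHThree
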