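import Cfsg.Agent.Characters.Induction
import Cfsg.Agent.Characters.Linear
import Cfsg.Agent.Characters.Generalized

/-!
# Characters with regular restriction to an abelian group

If the pull back of a character `π` contains each irreducible character of `K` once, then each of these
lies in just one constituent of `π`, and the constituents occur once.
-/

set_option autoImplicit false

namespace CfsgLib.BenderHThree.RegularRestriction

open CfsgLib.Characters

attribute [local instance high] Fintype.ofFinite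

universe u v

variable {X : Type u} [Group X] [Fintype X] {K : Type v} [Group K] [Fintype K]

/-- `θ` occurs in the pull back of `χ`. -/
def Below (f : K →* X) (χ : Cfsg.IrrCharacter X) (θ : Cfsg.IrrCharacter K) : Prop :=
  Cfsg.classInner (fun a => (χ : X → ℂ) (f a)) (θ : K → ℂ) ≠ 0

theorem sum_mult (f : K →* X) {π : X → ℂ} (hπ : Cfsg.IsCharacter X π)
    (hreg : ∀ θ : Cfsg.IrrCharacter K, Cfsg.classInner (fun a => π (f a)) (θ : K → ℂ) = 1) :
    ∃ (m : Cfsg.IrrCharacter X → ℕ) (k : Cfsg.IrrCharacter X → Cfsg.IrrCharacter K → ℕ),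
      (∀ χ : Cfsg.IrrCharacter X, Cfsg.classInner π (χ : X → ℂ) = m χ) ∧
      (∀ (χ : Cfsg.IrrCharacter X) (θ : Cfsg.IrrCharacter K),
        Cfsg.classInner (fun a => (χ : X → ℂ) (f a)) (θ : K → ℂ) = k χ θ) ∧
      ∀ θ, ∑ χ, m χ * k χ θ = 1 := by
  obtain ⟨m, hm⟩ := exists_nat_coeff hπ
  choose k hk using fun (χ : Cfsg.IrrCharacter X) (θ : Cfsg.IrrCharacter K) =>
    classInner_characters (isCharacter_comp f (isCharacter_of_isIrr χ.2)) (isCharacter_of_isIrr θ.2)
  refine ⟨m, k, fun χ => ?_, hk, fun θ => ?_⟩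
  · rw [hm]; exact classInner_irr_coeff (fun χ => (m χ : ℂ)) χ
  · have he : (fun a => π (f a)) = ∑ χ : Cfsg.IrrCharacter X, (m χ : ℂ) • (fun a => (χ : X → ℂ) (f a)) := by
      funext a
      have := congrFun hm (f a)
      simp only [Finset.sum_apply, Pi.smul_apply] at this ⊢
      exact this
    have h := hreg θ
    rw [he, classInner_sum_left] at h
    simp only [classInner_smul_left] at h hk
    simp only [hk] at h
    exact_mod_cast h

variable (f : K →* X) {π : X → ℂ} (hπ : Cfsg.IsCharacter X π)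
  (hreg : ∀ θ : Cfsg.IrrCharacter K, Cfsg.classInner (fun a => π (f a)) (θ : K → ℂ) = 1)

include hπ hreg

theorem unique {χ χ' : Cfsg.IrrCharacter X} {θ : Cfsg.IrrCharacter K}
    (h : Cfsg.classInner π (χ : X → ℂ) ≠ 0) (h' : Cfsg.classInner π (χ' : X → ℂ) ≠ 0)
    (hθ : Below f χ θ) (hθ' : Below f χ' θ) : χ = χ' := by
  classical
  obtain ⟨m, k, hm, hk, hsum⟩ := sum_mult f hπ hreg
  by_contra hne
  have h1 : ∀ ψ : Cfsg.IrrCharacter X, Cfsg.classInner π (ψ : X → ℂ) ≠ 0 → Below f ψ θ → 1 ≤ m ψ * k ψ θ :=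
    fun ψ hψ hb => Nat.one_le_iff_ne_zero.2 (mul_ne_zero
      (fun e => hψ (by rw [hm, e, Nat.cast_zero])) (fun e => hb (by rw [hk, e, Nat.cast_zero])))
  have h2 : m χ * k χ θ + m χ' * k χ' θ ≤ 1 := by
    rw [← hsum θ, ← Finset.sum_pair (f := fun ψ => m ψ * k ψ θ) hne]
    exact Finset.sum_le_univ_sum_of_nonneg fun _ => Nat.zero_le _
  have := h1 χ h hθ
  have := h1 χ' h' hθ'
  omega

theorem mult_eq_one {χ : Cfsg.IrrCharacter X} (h : Cfsg.classInner π (χ : X → ℂ) ≠ 0)
    {θ : Cfsg.IrrCharacter K} (hθ : Below f χ θ) :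
    Cfsg.classInner π (χ : X → ℂ) = 1 ∧
      Cfsg.classInner (fun a => (χ : X → ℂ) (f a)) (θ : K → ℂ) = 1 := by
  classical
  obtain ⟨m, k, hm, hk, hsum⟩ := sum_mult f hπ hreg
  have hle : m χ * k χ θ ≤ 1 := by
    rw [← hsum θ]
    exact Finset.single_le_sum (f := fun ψ => m ψ * k ψ θ) (fun _ _ => Nat.zero_le _) (Finset.mem_univ _)
  have h0 : 1 ≤ m χ * k χ θ := Nat.one_le_iff_ne_zero.2 (mul_ne_zero
    (fun e => h (by rw [hm, e, Nat.cast_zero])) (fun e => hθ (by rw [hk, e, Nat.cast_zero])))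
  obtain ⟨e1, e2⟩ := mul_eq_one.1 (le_antisymm hle h0)
  simp [hm, hk, e1, e2]

theorem exists_unique_constituent (θ : Cfsg.IrrCharacter K) :
    ∃ χ : Cfsg.IrrCharacter X, Cfsg.classInner π (χ : X → ℂ) ≠ 0 ∧ Below f χ θ := by
  classical
  obtain ⟨m, k, hm, hk, hsum⟩ := sum_mult f hπ hreg
  obtain ⟨χ, -, hχ⟩ := Finset.exists_ne_zero_of_sum_ne_zero ((hsum θ).trans_ne one_ne_zero)
  exact ⟨χ, by rw [hm]; exact_mod_cast left_ne_zero_of_mul hχ,
    by rw [Below, hk]; exact_mod_cast right_ne_zero_of_mul hχ⟩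

omit [Fintype X] hreg hπ in
theorem exists_below [Finite K] (χ : Cfsg.IrrCharacter X) : ∃ θ : Cfsg.IrrCharacter K, Below f χ θ := by
  classical
  by_contra h
  push Not at h
  have h2 := congrFun (character_expansion (isCharacter_comp f (isCharacter_of_isIrr χ.2))) 1
  simp only [Below, ne_eq, not_not] at h
  simp [h] at h2
  exact irr_one_ne_zero χ.2 h2

theorem mult_le_one (χ : Cfsg.IrrCharacter X) :
    Cfsg.classInner π (χ : X → ℂ) = 0 ∨ Cfsg.classInner π (χ : X → ℂ) = 1 := by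
  by_cases h : Cfsg.classInner π (χ : X → ℂ) = 0
  · exact Or.inl h
  · obtain ⟨θ, hθ⟩ := exists_below f χ
    exact Or.inr (mult_eq_one f hπ hreg h hθ).1

end CfsgLib.BenderHThree.RegularRestriction
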