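import Cfsg.Agent.BenderHThree.Theta
import Cfsg.Agent.BenderHThree.RegularRestriction

/-!
# The permutation character on the conjugates of `t`
-/

set_option autoImplicit false

namespace CfsgLib.BenderHThree

open CfsgLib.Characters
open scoped ComplexConjugate

attribute [local instance high] Fintype.ofFinite

universe u

namespace Setup

variable {G : Type u} [Group G] [Fintype G] (S : Setup G)

/-- The conjugates of `t`. -/
def Pts : Type u := {x : G // ∃ g : G, g * S.t * g⁻¹ = x}

instance : Finite S.Pts := Subtype.finite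

instance : MulAction G S.Pts where
  smul g x := ⟨g * x.1 * g⁻¹, by
    obtain ⟨k, hk⟩ := x.2
    exact ⟨g * k, by rw [← hk]; group⟩⟩
  one_smul x := Subtype.ext (by show (1 : G) * x.1 * 1⁻¹ = x.1; simp)
  mul_smul g k x := Subtype.ext (by show g * k * x.1 * (g * k)⁻¹ = g * (k * x.1 * k⁻¹) * g⁻¹; group)

@[simp] theorem smul_coe (g : G) (x : S.Pts) : (g • x).1 = g * x.1 * g⁻¹ := rfl

/-- The point `t`. -/
def pt : S.Pts := ⟨S.t, 1, by simp⟩

theorem smul_eq_aPart (g : G) : g • S.pt = (S.aPart g : G) • S.pt := Subtype.ext (S.aPart_spec g)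

theorem exists_A_smul (x : S.Pts) : ∃ a : S.A, (a : G) • S.pt = x := by
  obtain ⟨g, hg⟩ := x.2
  exact ⟨S.aPart g, (S.smul_eq_aPart g).symm.trans (Subtype.ext hg)⟩

theorem smul_pt_inj {a b : S.A} (h : (a : G) • S.pt = (b : G) • S.pt) : a = b :=
  Subtype.ext (S.conj_inj a.2 b.2 (congrArg Subtype.val h))

instance : MulAction.IsPretransitive G S.Pts :=
  ⟨fun x y => by
    obtain ⟨a, rfl⟩ := S.exists_A_smul x
    obtain ⟨b, rfl⟩ := S.exists_A_smul y
    exact ⟨(b : G) * (a : G)⁻¹, by rw [mul_smul, inv_smul_smul]⟩⟩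

instance : MulAction.IsPretransitive S.N S.Pts :=
  ⟨fun x y => by
    obtain ⟨a, rfl⟩ := S.exists_A_smul x
    obtain ⟨b, rfl⟩ := S.exists_A_smul y
    refine ⟨⟨(b : G) * (a : G)⁻¹, S.le (mul_mem b.2 (inv_mem a.2))⟩, ?_⟩
    show ((b : G) * (a : G)⁻¹) • ((a : G) • S.pt) = _
    rw [mul_smul, inv_smul_smul]⟩

theorem stabilizer_pt : MulAction.stabilizer G S.pt = Subgroup.centralizer ({S.t} : Set G) := by
  ext g
  rw [MulAction.mem_stabilizer_iff, S.mem_centralizer_t]
  exact ⟨fun h => mul_inv_eq_iff_eq_mul.1 (congrArg Subtype.val h),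
    fun h => Subtype.ext (mul_inv_eq_iff_eq_mul.2 h)⟩

theorem stabilizer_pt_N : MulAction.stabilizer S.N S.pt = S.E := by
  ext n
  rw [MulAction.mem_stabilizer_iff, S.mem_E]
  exact ⟨fun h => mul_inv_eq_iff_eq_mul.1 (congrArg Subtype.val h),
    fun h => Subtype.ext (mul_inv_eq_iff_eq_mul.2 h)⟩

/-- The number of fixed points. -/
noncomputable def perm (g : G) : ℂ := (Nat.card (MulAction.fixedBy S.Pts g) : ℂ)

theorem perm_eq : S.perm = Cfsg.indFun (MulAction.stabilizer G S.pt) (fun _ => 1) :=
  funext fun g => card_fixedBy_eq_indFun S.Pts S.pt g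

theorem perm_restrict :
    (fun n : S.N => S.perm (n : G)) = Cfsg.indFun (MulAction.stabilizer S.N S.pt) (fun _ => 1) :=
  funext fun n => card_fixedBy_eq_indFun S.Pts S.pt n

theorem isCharacter_perm : Cfsg.IsCharacter G S.perm := by
  rw [S.perm_eq]; exact isCharacter_indFun _ isCharacter_one

theorem isCharacter_permN : Cfsg.IsCharacter S.N (fun n : S.N => S.perm (n : G)) := by
  rw [S.perm_restrict]; exact isCharacter_indFun _ isCharacter_one

theorem card_Pts : Nat.card S.Pts = Nat.card S.A := by
  refine (Nat.card_congr (Equiv.ofBijective (fun a : S.A => (a : G) • S.pt) ⟨fun a b h => S.smul_pt_inj h, fun x => S.exists_A_smul x⟩)).symm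

theorem perm_A (a : S.A) [Decidable (a = 1)] :
    S.perm (a : G) = if a = 1 then (Nat.card S.A : ℂ) else 0 := by
  split_ifs with h
  · subst h
    rw [perm, ← S.card_Pts, Nat.card_congr (Equiv.subtypeUnivEquiv fun x => ?_)]
    show ((1 : S.A) : G) • x = x
    rw [Subgroup.coe_one, one_smul]
  · rw [perm]
    haveI : IsEmpty (MulAction.fixedBy S.Pts (a : G)) := ⟨fun ⟨x, hx⟩ => by
      obtain ⟨b, rfl⟩ := S.exists_A_smul x
      have h2 : (((a * b : S.A)) : G) • S.pt = (b : G) • S.pt := by rw [Subgroup.coe_mul, mul_smul]; exact hx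
      exact h (mul_eq_right.1 (S.smul_pt_inj h2))⟩
    simp

theorem classInner_perm_A (ν : S.Dual) :
    Cfsg.classInner (fun a : S.A => S.perm (a : G)) (ν : S.A → ℂ) = 1 := by
  classical
  simp only [Cfsg.classInner, S.perm_A]
  rw [Finset.sum_eq_single (1 : S.A) (fun a _ ha => by simp [ha]) (fun h => absurd (Finset.mem_univ _) h)]
  rw [if_pos rfl, S.dual_one, map_one, mul_one, inv_mul_cancel₀ (Nat.cast_ne_zero.2 Nat.card_pos.ne')]

/-- `A` inside `N`. -/
def inclA : S.A →* S.N := Subgroup.inclusion S.le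

theorem classInner_permN (lam : S.Dual) :
    Cfsg.classInner (fun n : S.N => S.perm (n : G)) (S.theta lam) = 1 := by
  classical
  rw [S.perm_restrict, classInner_indFun _ _ (isClassFunction_of_isCharacter (S.isCharacter_theta lam)),
    S.stabilizer_pt_N]
  simp only [Cfsg.classInner, S.theta_apply, map_sum, one_mul]
  have h : ∀ e : S.E, ∀ ν : S.orb lam,
      conj (if S.tw (e : S.N) ν.1 = ν.1 then (ν.1 : S.A → ℂ) (S.aPart ((e : S.N) : G)) else 0) =
        (if S.tw (e : S.N) ν.1 = ν.1 then (1 : ℂ) else 0) := fun e ν => by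
    rw [S.aPart_E e.2, S.dual_one]; split_ifs <;> simp
  simp only [h]
  rw [S.sum_fix lam, inv_mul_cancel₀ (Nat.cast_ne_zero.2 Nat.card_pos.ne')]

theorem classInner_theta_A (lam ν : S.Dual) [Decidable (ν ∈ S.orb lam)] :
    Cfsg.classInner (fun a : S.A => S.theta lam (S.inclA a)) (ν : S.A → ℂ) =
      if ν ∈ S.orb lam then 1 else 0 := by
  classical
  have he : (fun a : S.A => S.theta lam (S.inclA a)) = ∑ μ : S.orb lam, (μ.1 : S.A → ℂ) := by
    funext a
    rw [Finset.sum_apply]
    exact S.theta_coe lam a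
  rw [he, classInner_sum_left]
  simp only [classInner_irr]
  split_ifs with h
  · rw [Finset.sum_eq_single (⟨ν, h⟩ : S.orb lam)]
    · simp
    · intro μ _ hne; exact if_neg fun e => hne (Subtype.ext e)
    · simp
  · exact Finset.sum_eq_zero fun μ _ => if_neg fun e : μ.1 = ν => h (e ▸ μ.2)

/-- A constituent of the permutation character on `N` over `lam` is the orbit character. -/
theorem eq_thetaIrr {ψ : Cfsg.IrrCharacter S.N} {lam : S.Dual}
    (h : Cfsg.classInner (fun n : S.N => S.perm (n : G)) (ψ : S.N → ℂ) ≠ 0)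
    (hl : RegularRestriction.Below S.inclA ψ lam) : ψ = S.thetaIrr lam := by
  classical
  refine RegularRestriction.unique S.inclA S.isCharacter_permN S.classInner_perm_A h ?_ hl ?_
  · show Cfsg.classInner _ (S.theta lam) ≠ 0
    rw [S.classInner_permN]; exact one_ne_zero
  · show Cfsg.classInner (fun a : S.A => S.theta lam (S.inclA a)) (lam : S.A → ℂ) ≠ 0
    rw [S.classInner_theta_A, if_pos (S.self_mem_orb lam)]; exact one_ne_zero

/-- The constituent of the permutation character over a character of `A`. -/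
noncomputable def const (lam : S.Dual) : Cfsg.IrrCharacter G :=
  (RegularRestriction.exists_unique_constituent S.A.subtype S.isCharacter_perm S.classInner_perm_A lam).choose

theorem const_spec (lam : S.Dual) :
    Cfsg.classInner S.perm (S.const lam : G → ℂ) ≠ 0 ∧
      RegularRestriction.Below S.A.subtype (S.const lam) lam :=
  (RegularRestriction.exists_unique_constituent S.A.subtype S.isCharacter_perm S.classInner_perm_A lam).choose_spec

theorem eq_const {χ : Cfsg.IrrCharacter G} {lam : S.Dual} (h : Cfsg.classInner S.perm (χ : G → ℂ) ≠ 0)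
    (hl : RegularRestriction.Below S.A.subtype χ lam) : χ = S.const lam :=
  RegularRestriction.unique S.A.subtype S.isCharacter_perm S.classInner_perm_A h (S.const_spec lam).1 hl
    (S.const_spec lam).2

/-- The multiplicities of the orbit characters in the restrictions of the constituents. -/
theorem classInner_restrict (χ : Cfsg.IrrCharacter G) (hχ : Cfsg.classInner S.perm (χ : G → ℂ) ≠ 0)
    (lam : S.Dual) [Decidable (χ = S.const lam)] :
    Cfsg.classInner (fun n : S.N => (χ : G → ℂ) (n : G)) (S.theta lam) =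
      if χ = S.const lam then 1 else 0 := by
  classical
  have hreg : ∀ θ : S.Dual, Cfsg.classInner (fun a : S.A => S.perm (S.A.subtype a)) (θ : S.A → ℂ) = 1 :=
    S.classInner_perm_A
  choose c hc using fun (ψ : Cfsg.IrrCharacter G) => classInner_characters
    (isCharacter_restrict S.N (isCharacter_of_isIrr ψ.2)) (S.isCharacter_theta lam)
  obtain ⟨m, hm⟩ := exists_nat_coeff S.isCharacter_perm
  have hmψ : ∀ ψ : Cfsg.IrrCharacter G, Cfsg.classInner S.perm (ψ : G → ℂ) = m ψ := fun ψ => by
    rw [hm]; exact classInner_irr_coeff (fun ψ => (m ψ : ℂ)) ψ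
  have htot : ∑ ψ, m ψ * c ψ = 1 := by
    have h := S.classInner_permN lam
    rw [show (fun n : S.N => S.perm (n : G)) =
        ∑ ψ : Cfsg.IrrCharacter G, (m ψ : ℂ) • (fun n : S.N => (ψ : G → ℂ) (n : G)) from funext fun n => by
      have := congrFun hm (n : G)
      simp only [Finset.sum_apply, Pi.smul_apply] at this ⊢
      exact this, classInner_sum_left] at h
    simp only [classInner_smul_left, hc] at h
    exact_mod_cast h
  -- the constituent over `lam` contains the orbit character
  have h1 : m (S.const lam) * c (S.const lam) ≠ 0 := by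
    have hm0 : m (S.const lam) ≠ 0 := fun e => (S.const_spec lam).1 (by rw [hmψ, e, Nat.cast_zero])
    refine mul_ne_zero hm0 fun hc0 => ?_
    have hR := isCharacter_restrict S.N (isCharacter_of_isIrr (S.const lam).2)
    obtain ⟨d, hd⟩ := exists_nat_coeff hR
    have hdψ : ∀ ψ : Cfsg.IrrCharacter S.N,
        Cfsg.classInner (fun n : S.N => (S.const lam : G → ℂ) (n : G)) (ψ : S.N → ℂ) = d ψ := fun ψ => by
      rw [hd]; exact classInner_irr_coeff (fun ψ => (d ψ : ℂ)) ψ
    obtain ⟨ψ, hψd, hψl⟩ : ∃ ψ : Cfsg.IrrCharacter S.N, d ψ ≠ 0 ∧ RegularRestriction.Below S.inclA ψ lam := by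
      by_contra hne
      push Not at hne
      refine (S.const_spec lam).2 ?_
      rw [show (fun a : S.A => (S.const lam : G → ℂ) (S.A.subtype a)) =
          ∑ ψ : Cfsg.IrrCharacter S.N, (d ψ : ℂ) • (fun a : S.A => (ψ : S.N → ℂ) (S.inclA a)) from funext fun a => by
        have := congrFun hd (S.inclA a)
        simp only [Finset.sum_apply, Pi.smul_apply] at this ⊢
        exact this, classInner_sum_left]
      refine Finset.sum_eq_zero fun ψ _ => ?_
      rw [classInner_smul_left]
      by_cases hψ : d ψ = 0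
      · simp [hψ]
      · have := hne ψ hψ
        simp only [RegularRestriction.Below, ne_eq, not_not] at this
        rw [this, mul_zero]
    have hperm : Cfsg.classInner (fun n : S.N => S.perm (n : G)) (ψ : S.N → ℂ) ≠ 0 := by
      choose e he using fun (χ : Cfsg.IrrCharacter G) => classInner_characters
        (isCharacter_restrict S.N (isCharacter_of_isIrr χ.2)) (isCharacter_of_isIrr ψ.2)
      rw [show (fun n : S.N => S.perm (n : G)) =
          ∑ χ : Cfsg.IrrCharacter G, (m χ : ℂ) • (fun n : S.N => (χ : G → ℂ) (n : G)) from funext fun n => by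
        have := congrFun hm (n : G)
        simp only [Finset.sum_apply, Pi.smul_apply] at this ⊢
        exact this, classInner_sum_left]
      simp only [classInner_smul_left, he]
      have hpos : m (S.const lam) * e (S.const lam) ≠ 0 := mul_ne_zero hm0 fun h0 => hψd (by
        have h2 := he (S.const lam)
        rw [hdψ, h0] at h2
        exact_mod_cast h2)
      have : ∑ χ, m χ * e χ ≠ 0 := fun h0 => hpos
        ((Finset.sum_eq_zero_iff).1 h0 _ (Finset.mem_univ _))
      exact_mod_cast this
    have hψ := S.eq_thetaIrr hperm hψl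
    have h2 := hdψ ψ
    rw [hψ, show ((S.thetaIrr lam : S.N → ℂ)) = S.theta lam from rfl, hc, hc0] at h2
    exact hψd (by rw [hψ]; exact_mod_cast h2.symm)
  have hle : m (S.const lam) * c (S.const lam) ≤ 1 := by
    rw [← htot]
    exact Finset.single_le_sum (f := fun ψ => m ψ * c ψ) (fun _ _ => Nat.zero_le _) (Finset.mem_univ _)
  split_ifs with h
  · subst h
    obtain ⟨-, e2⟩ := mul_eq_one.1 (le_antisymm hle (Nat.one_le_iff_ne_zero.2 h1))
    rw [hc, e2, Nat.cast_one]
  · have h2 : m χ * c χ + m (S.const lam) * c (S.const lam) ≤ 1 := by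
      rw [← htot, ← Finset.sum_pair (f := fun ψ => m ψ * c ψ) h]
      exact Finset.sum_le_univ_sum_of_nonneg fun _ => Nat.zero_le _
    have h3 : m χ * c χ = 0 := by omega
    have hmc : m χ ≠ 0 := fun e => hχ (by rw [hmψ, e, Nat.cast_zero])
    rw [hc, (mul_eq_zero.1 h3).resolve_left hmc, Nat.cast_zero]

end Setup

end CfsgLib.BenderHThree
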