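import Cfsg.Agent.BenderHThree.World

/-!
# The end game when the complement is semiregular

If no non-identity element of `C_D(t)` commutes with a non-identity element of the kernel `D1` (`D` is
a Frobenius group), condition (F3) of `World` is vacuous.
-/

set_option autoImplicit false

namespace CfsgLib.BenderHThree

universe u

/-- SHAPE on the hypotheses of the pure case: `D1` abelian, regular on the conjugates of `t`, a
trivial intersection set with normaliser `D`, and `C_D(t)` semiregular on `D1 - 1`. -/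
theorem commute_involutions_of_semiregular {H : Type u} [Group H] [Finite H] (t : H) (D1 D : Subgroup H)
    (ht : orderOf t = 2) (comm : ∀ a ∈ D1, ∀ b ∈ D1, a * b = b * a) (le : D1 ≤ D)
    (norm : ∀ n ∈ D, ∀ a ∈ D1, n * a * n⁻¹ ∈ D1) (odd : Odd (Nat.card D))
    (cover : ∀ g : H, ∃ a ∈ D1, g * t * g⁻¹ = a * t * a⁻¹)
    (free : ∀ a ∈ D1, a * t = t * a → a = 1)
    (coprime : Nat.Coprime (Nat.card D1) (Nat.card (Subgroup.centralizer ({t} : Set H))))
    (ti : ∀ x ∈ D1, x ≠ 1 → ∀ g : H, g * x * g⁻¹ ∈ D1 → g ∈ D)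
    (core : ∀ w ∈ Cfsg.oddCore H, w * t = t * w)
    (fusion : ∀ u : H, orderOf u = 2 → ∃ g : H, g * t * g⁻¹ = u)
    (semiregular : ∀ e ∈ D, e * t = t * e → e ≠ 1 → ∀ y ∈ D1, e * y = y * e → y = 1) :
    t ∈ Cfsg.pCore 2 H ∧ ∀ u v : H, orderOf u = 2 → orderOf v = 2 → Commute u v :=
  let W : World H := ⟨t, D1, D, ht, comm, le, norm, odd, cover, free, coprime, ti, core,
    fun y hy hy1 e he he1 het hey _ => hy1 (semiregular e he het he1 y hy hey)⟩
  ⟨W.t_mem_pCore, W.commute_involutions fusion⟩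

end CfsgLib.BenderHThree
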