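import Cfsg.Agent.BenderHThree.Basic
import Cfsg.Agent.Characters.Classes

/-!
# The monomial characters of `N` attached to the orbits on the dual of `A`
-/

set_option autoImplicit false

namespace CfsgLib.BenderHThree

open CfsgLib.Characters
open scoped ComplexConjugate

attribute [local instance high] Fintype.ofFinite

universe u

namespace Setup

variable {G : Type u} [Group G] [Fintype G] (S : Setup G)

/-- The orbit of a character of `A`. -/
def orb (lam : S.Dual) : Set S.Dual := {ν | ∃ n : S.N, S.tw n lam = ν}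

theorem self_mem_orb (lam : S.Dual) : lam ∈ S.orb lam := ⟨1, S.tw_one lam⟩

theorem tw_mem_orb {lam ν : S.Dual} (n : S.N) (h : ν ∈ S.orb lam) : S.tw n ν ∈ S.orb lam := by
  obtain ⟨m, rfl⟩ := h
  exact ⟨m * n, (S.tw_tw m n lam).symm⟩

theorem orb_eq {lam ν : S.Dual} (h : ν ∈ S.orb lam) : S.orb ν = S.orb lam := by
  obtain ⟨m, rfl⟩ := h
  ext μ
  constructor
  · rintro ⟨n, rfl⟩; exact S.tw_mem_orb n ⟨m, rfl⟩
  · rintro ⟨n, rfl⟩; exact ⟨m⁻¹ * n, by rw [S.tw_tw, mul_inv_cancel_left]⟩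

/-- The monomial representation of `N` on functions on an orbit. -/
noncomputable def thetaRep (lam : S.Dual) : Representation ℂ S.N (S.orb lam → ℂ) where
  toFun n :=
    { toFun := fun f ν => (ν.1 : S.A → ℂ) (S.aPart (n : G)) * f ⟨S.tw n ν.1, S.tw_mem_orb n ν.2⟩
      map_add' := fun f f' => by funext ν; simp [mul_add]
      map_smul' := fun c f => by funext ν; simp [mul_left_comm] }
  map_one' := by
    refine LinearMap.ext fun f => funext fun ν => ?_
    show (ν.1 : S.A → ℂ) (S.aPart ((1 : S.N) : G)) * f ⟨S.tw 1 ν.1, _⟩ = f ν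
    simp [S.aPart_one, S.dual_one]
  map_mul' n m := by
    refine LinearMap.ext fun f => funext fun ν => ?_
    show (ν.1 : S.A → ℂ) (S.aPart ((n * m : S.N) : G)) * f ⟨S.tw (n * m) ν.1, _⟩ =
      (ν.1 : S.A → ℂ) (S.aPart (n : G)) *
        ((S.tw n ν.1 : S.A → ℂ) (S.aPart (m : G)) * f ⟨S.tw m (S.tw n ν.1), _⟩)
    rw [S.aPart_mul, S.dual_mul, mul_assoc]
    simp only [S.tw_tw, tw_apply]

/-- The monomial character. -/
noncomputable def theta (lam : S.Dual) : S.N → ℂ := (S.thetaRep lam).character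

theorem isCharacter_theta (lam : S.Dual) : Cfsg.IsCharacter S.N (S.theta lam) :=
  isCharacter_character _

theorem theta_apply [DecidableEq S.Dual] (lam : S.Dual) (n : S.N) :
    S.theta lam n =
      ∑ ν : S.orb lam, if S.tw n ν.1 = ν.1 then (ν.1 : S.A → ℂ) (S.aPart (n : G)) else 0 := by
  classical
  rw [theta, Representation.character, LinearMap.trace_eq_matrix_trace ℂ (Pi.basisFun ℂ _),
    Matrix.trace]
  refine Finset.sum_congr rfl fun ν _ => ?_
  rw [Matrix.diag, LinearMap.toMatrix_apply, Pi.basisFun_repr, Pi.basisFun_apply]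
  show (ν.1 : S.A → ℂ) (S.aPart (n : G)) *
    Pi.single (M := fun _ : S.orb lam => ℂ) ν (1 : ℂ) ⟨S.tw n ν.1, _⟩ = _
  rw [Pi.single_apply]
  by_cases h : S.tw n ν.1 = ν.1
  · rw [if_pos (Subtype.ext h), if_pos h, mul_one]
  · rw [if_neg (fun e => h (congrArg Subtype.val e)), if_neg h, mul_zero]

theorem theta_coe (lam : S.Dual) (a : S.A) :
    S.theta lam ⟨(a : G), S.le a.2⟩ = ∑ ν : S.orb lam, (ν.1 : S.A → ℂ) a := by
  classical
  rw [S.theta_apply]
  refine Finset.sum_congr rfl fun ν _ => ?_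
  rw [if_pos (S.tw_coe a ν.1)]
  exact congrArg _ (S.aPart_coe a)

theorem theta_one (lam : S.Dual) : S.theta lam 1 = (Nat.card (S.orb lam) : ℂ) := by
  classical
  rw [S.theta_apply]
  simp [S.aPart_one, S.dual_one, Nat.card_eq_fintype_card]

/-- Orbit counting. -/
theorem card_stab_mul (lam : S.Dual) :
    Nat.card {p : S.E × S.orb lam // S.tw (p.1 : S.N) p.2.1 = p.2.1} = Nat.card S.E := by
  classical
  have hf : ∀ ν : S.orb lam, ∃ e : S.E, S.tw (e : S.N) lam = ν.1 := by
    intro ν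
    obtain ⟨n, hn⟩ := ν.2
    exact ⟨_, (S.tw_ePart n lam).symm.trans hn⟩
  choose f hf using hf
  refine Nat.card_congr (Equiv.ofBijective (fun p => f p.1.2 * p.1.1) ⟨?_, ?_⟩)
  · rintro ⟨⟨e, ν⟩, h⟩ ⟨⟨e', ν'⟩, h'⟩ he
    have hν : ν = ν' := by
      have h2 := congrArg (fun x : S.E => S.tw (x : S.N) lam) he
      simp only [Subgroup.coe_mul, ← S.tw_tw, hf, h, h'] at h2
      exact Subtype.ext h2
    subst hν
    have : e = e' := mul_left_cancel he
    subst this
    rfl
  · intro x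
    have key : ∀ ν : S.orb lam, S.tw (x : S.N) lam = ν.1 →
        S.tw (((f ν)⁻¹ * x : S.E) : S.N) ν.1 = ν.1 := by
      intro ν hx
      conv_lhs => arg 3; rw [← hf ν]
      rw [Subgroup.coe_mul, Subgroup.coe_inv, S.tw_tw, mul_inv_cancel_left, hx]
    exact ⟨⟨((f ⟨_, (x : S.N), rfl⟩)⁻¹ * x, ⟨_, (x : S.N), rfl⟩), key _ rfl⟩, by simp⟩

theorem sum_fix [DecidableEq S.Dual] (lam : S.Dual) :
    ∑ e : S.E, ∑ ν : S.orb lam, (if S.tw (e : S.N) ν.1 = ν.1 then (1 : ℂ) else 0) =
      (Nat.card S.E : ℂ) := by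
  rw [← S.card_stab_mul lam, Nat.card_eq_fintype_card, Fintype.card_subtype, ← Finset.sum_product',
    Finset.sum_boole]
  congr 2
  ext
  simp

theorem classInner_theta [DecidableEq S.Dual] (lam lam' : S.Dual) [Decidable (lam' ∈ S.orb lam)] :
    Cfsg.classInner (S.theta lam) (S.theta lam') = if lam' ∈ S.orb lam then 1 else 0 := by
  classical
  have hA : (Nat.card S.A : ℂ) ≠ 0 := Nat.cast_ne_zero.2 Nat.card_pos.ne'
  have hE : (Nat.card S.E : ℂ) ≠ 0 := Nat.cast_ne_zero.2 Nat.card_pos.ne'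
  have key : ∀ e : S.E, ∑ a : S.A, S.theta lam (S.split (a, e)) * conj (S.theta lam' (S.split (a, e))) =
      ∑ ν : S.orb lam, ∑ ν' : S.orb lam',
        (if S.tw (e : S.N) ν.1 = ν.1 ∧ S.tw (e : S.N) ν'.1 = ν'.1 ∧ ν.1 = ν'.1 then
          (Nat.card S.A : ℂ) else 0) := by
    intro e
    simp only [S.theta_apply, S.aPart_split, S.tw_split, map_sum, Finset.sum_mul, Finset.mul_sum]
    rw [Finset.sum_congr rfl fun _ _ => Finset.sum_comm, Finset.sum_comm]
    refine Finset.sum_congr rfl fun ν _ => ?_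
    rw [Finset.sum_comm]
    refine Finset.sum_congr rfl fun ν' _ => ?_
    by_cases h1 : S.tw (e : S.N) ν.1 = ν.1
    · by_cases h2 : S.tw (e : S.N) ν'.1 = ν'.1
      · simp only [h1, h2, if_true, true_and]
        have h := classInner_irr ν.1 ν'.1
        simp only [Cfsg.classInner] at h
        rw [inv_mul_eq_iff_eq_mul₀ hA] at h
        rw [h]
        split_ifs <;> simp
      · simp [h1, h2]
    · simp [h1]
  rw [Cfsg.classInner, ← Equiv.sum_comp S.split,
    show (Finset.univ : Finset (S.A × S.E)) = Finset.univ ×ˢ Finset.univ by ext; simp,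
    Finset.sum_product, Finset.sum_comm,
    Finset.sum_congr rfl fun e _ => key e, S.card_N, Nat.cast_mul]
  split_ifs with h
  · obtain ho := S.orb_eq h
    have h2 : ∀ e : S.E, ∑ ν : S.orb lam, ∑ ν' : S.orb lam',
        (if S.tw (e : S.N) ν.1 = ν.1 ∧ S.tw (e : S.N) ν'.1 = ν'.1 ∧ ν.1 = ν'.1 then
          (Nat.card S.A : ℂ) else 0) =
        (Nat.card S.A : ℂ) * ∑ ν : S.orb lam, (if S.tw (e : S.N) ν.1 = ν.1 then 1 else 0) := by
      intro e
      rw [Finset.mul_sum]
      refine Finset.sum_congr rfl fun ν _ => ?_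
      have hν : ν.1 ∈ S.orb lam' := ho.symm ▸ ν.2
      rw [Finset.sum_eq_single (⟨ν.1, hν⟩ : S.orb lam')]
      · split_ifs <;> simp_all
      · intro ν' _ hne
        exact if_neg fun hh => hne (Subtype.ext hh.2.2.symm)
      · intro hh; exact absurd (Finset.mem_univ _) hh
    rw [Finset.sum_congr rfl fun e _ => h2 e, ← Finset.mul_sum, S.sum_fix lam]
    field_simp
  · rw [Finset.sum_eq_zero fun e _ => Finset.sum_eq_zero fun ν _ => Finset.sum_eq_zero fun ν' _ => if_neg ?_, mul_zero]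
    rintro ⟨-, -, hh⟩
    refine h ?_
    have : S.orb lam = S.orb lam' := (S.orb_eq ν.2).symm.trans ((congrArg S.orb hh).trans (S.orb_eq ν'.2))
    exact this ▸ S.self_mem_orb lam'

theorem isIrr_theta (lam : S.Dual) : Cfsg.IsIrrCharacter S.N (S.theta lam) := by
  classical
  refine isIrr_of_classInner_self (S.isCharacter_theta lam) ?_
  rw [S.classInner_theta, if_pos (S.self_mem_orb lam)]

/-- The irreducible character of an orbit. -/
noncomputable def thetaIrr (lam : S.Dual) : Cfsg.IrrCharacter S.N := ⟨S.theta lam, S.isIrr_theta lam⟩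

theorem pow_card_E_mem (n : S.N) : ((n ^ Nat.card S.E : S.N) : G) ∈ S.A := by
  classical
  let K := S.A.subgroupOf S.N
  haveI : K.Normal := ⟨fun a ha m => by
    simpa [K, Subgroup.mem_subgroupOf] using S.norm m m.2 _ (Subgroup.mem_subgroupOf.1 ha)⟩
  have hi : K.index = Nat.card S.E := by
    have h := K.card_mul_index
    rw [Nat.card_congr (Subgroup.subgroupOfEquivOfLe S.le).toEquiv, S.card_N] at h
    exact Nat.eq_of_mul_eq_mul_left Nat.card_pos h
  have := Subgroup.pow_index_mem (H := K) n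
  rw [hi] at this
  exact Subgroup.mem_subgroupOf.1 this

theorem dual_aPart_pow (ν : S.Dual) {n : S.N} (h : S.tw n ν = ν) (k : ℕ) :
    (ν : S.A → ℂ) (S.aPart ((n ^ k : S.N) : G)) = (ν : S.A → ℂ) (S.aPart (n : G)) ^ k := by
  induction k with
  | zero => simp [S.aPart_one, S.dual_one]
  | succ k ih =>
    rw [pow_succ', S.aPart_mul, S.dual_mul, ← S.tw_apply, h, ih, pow_succ']

/-- Away from the elements of `N` with nontrivial part in `A` the values only count fixed points. -/
theorem theta_of_pow_eq_one [DecidableEq S.Dual] (lam : S.Dual) (n : S.N) (hn : n ^ Nat.card S.E = 1) :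
    S.theta lam n = ∑ ν : S.orb lam, (if S.tw n ν.1 = ν.1 then (1 : ℂ) else 0) := by
  rw [S.theta_apply]
  refine Finset.sum_congr rfl fun ν _ => ?_
  split_ifs with h
  · have h1 := S.dual_aPart_pow ν.1 h (Nat.card S.E)
    rw [hn, Subgroup.coe_one, S.aPart_one, S.dual_one] at h1
    have h2 : (ν.1 : S.A → ℂ) (S.aPart (n : G)) ^ Nat.card S.A = 1 := by
      rw [← S.dual_pow, pow_card_eq_one', S.dual_one]
    have h3 := pow_gcd_eq_one.2 ⟨h2, h1.symm⟩
    rwa [S.coprime_E, pow_one] at h3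
  · rfl

/-- The values of two orbit characters with the same stabiliser agree off the elements with
nontrivial part in `A`. -/
theorem theta_eq_of_stab (lam lam' : S.Dual)
    (hst : ∀ n : S.N, S.tw n lam = lam ↔ S.tw n lam' = lam') (n : S.N) (hn : n ^ Nat.card S.E = 1) :
    S.theta lam n = S.theta lam' n := by
  classical
  rw [S.theta_of_pow_eq_one lam n hn, S.theta_of_pow_eq_one lam' n hn]
  have hsame : ∀ m m' : S.N, S.tw m lam = S.tw m' lam ↔ S.tw m lam' = S.tw m' lam' := by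
    intro m m'
    have e : ∀ μ : S.Dual, S.tw m μ = S.tw m' μ ↔ S.tw (m * m'⁻¹) μ = μ := fun μ => by
      rw [← S.tw_tw]
      exact ⟨fun h => by rw [h, S.tw_inv_tw], fun h => by
        have := congrArg (S.tw m') h
        rwa [S.tw_tw_inv] at this⟩
    rw [e, e]; exact hst _
  let F : S.orb lam → S.orb lam' := fun ν => ⟨S.tw ν.2.choose lam', _, rfl⟩
  have hF : ∀ ν : S.orb lam, ∀ m : S.N, S.tw m lam = ν.1 → S.tw m lam' = (F ν).1 := fun ν m hm =>
    (hsame m ν.2.choose).1 (hm.trans ν.2.choose_spec.symm)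
  have hbij : Function.Bijective F := by
    constructor
    · intro ν ν' h
      apply Subtype.ext
      rw [← ν.2.choose_spec, ← ν'.2.choose_spec]
      exact (hsame _ _).2 (congrArg Subtype.val h)
    · rintro ⟨μ, m, rfl⟩
      exact ⟨⟨_, m, rfl⟩, Subtype.ext (hF ⟨_, m, rfl⟩ m rfl).symm⟩
  refine Fintype.sum_bijective F hbij _ _ fun ν => ?_
  obtain ⟨m, hm⟩ := ν.2
  rw [← hF ν m hm, ← hm, S.tw_tw, S.tw_tw]
  exact if_congr (hsame _ _) rfl rfl

end Setup

end CfsgLib.BenderHThree
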