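import Cfsg.Agent.BenderHThree.Orbital
import Cfsg.Agent.PLocal.Cores
import Cfsg.Agent.ZStar.Theorem

/-!
# The end game of the two point world

In the two point world of Bender's theorem the conjugates of an involution `t` of the point stabiliser
`H` commute pairwise: pass to a subnormal subgroup generated by the conjugates of `t` in it, show that
the permutation group on them has rank two, and use Glauberman's theorem.
-/

set_option autoImplicit false

namespace CfsgLib.BenderHThree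

open CfsgLib.PLocal (le_pCore_of_isSubnormal)

attribute [local instance high] Fintype.ofFinite

universe u

/-- The point stabiliser in the two point world. -/
structure World (H : Type u) [Group H] [Finite H] where
  t : H
  D1 : Subgroup H
  D : Subgroup H
  ht : orderOf t = 2
  comm : ∀ a ∈ D1, ∀ b ∈ D1, a * b = b * a
  le : D1 ≤ D
  norm : ∀ n ∈ D, ∀ a ∈ D1, n * a * n⁻¹ ∈ D1
  odd : Odd (Nat.card D)
  cover : ∀ g : H, ∃ a ∈ D1, g * t * g⁻¹ = a * t * a⁻¹
  free : ∀ a ∈ D1, a * t = t * a → a = 1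
  coprime : Nat.Coprime (Nat.card D1) (Nat.card (Subgroup.centralizer ({t} : Set H)))
  ti : ∀ x ∈ D1, x ≠ 1 → ∀ g : H, g * x * g⁻¹ ∈ D1 → g ∈ D
  core : ∀ w ∈ Cfsg.oddCore H, w * t = t * w
  /-- (F3): a conjugate of `t` fixed by a non-identity element of `C_D(t)` is not swapped with `t`. -/
  noSwap : ∀ y ∈ D1, y ≠ 1 → ∀ e ∈ D, e ≠ 1 → e * t = t * e → e * y = y * e →
    ¬ ∃ g : H, g * t * g⁻¹ = y * t * y⁻¹ ∧ g * (y * t * y⁻¹) * g⁻¹ = t

/-- A subnormal subgroup of odd order lies in the odd core. -/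
theorem le_oddCore_of_le_isSubnormal {G : Type u} [Group G] [Finite G] {A : Subgroup G}
    (hA : A.IsSubnormal) :
    ∀ X : Subgroup G, X ≤ A → A ≤ Subgroup.normalizer (X : Set G) → Odd (Nat.card X) →
      X ≤ Cfsg.oddCore G := by
  induction hA with
  | top =>
    intro X _ hn ho
    have : X.Normal := Subgroup.normalizer_eq_top_iff.mp (top_unique hn)
    exact CfsgLib.PLocal.le_pPrimeCore (Nat.coprime_two_right.2 ho)
  | step A B hle _ hnorm ih =>
    intro X hXA hn ho x hx
    let A' : Subgroup B := A.subgroupOf B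
    let X' : Subgroup A' := (X.subgroupOf B).subgroupOf A'
    have : A'.Normal := hnorm
    have hX'n : X'.Normal := ⟨fun n hn' g => Subgroup.le_normalizer_iff.mp hn _ g.2 _ hn'⟩
    have hX' : (Nat.card X').Coprime 2 := by
      refine Nat.coprime_two_right.2 ?_
      have e : Nat.card X' = Nat.card X :=
        Nat.card_congr ⟨fun y => ⟨((y.1.1 : B) : G), y.2⟩,
          fun y => ⟨⟨⟨y.1, hle (hXA y.2)⟩, hXA y.2⟩, y.2⟩, fun y => rfl, fun y => rfl⟩
      rw [e]; exact ho
    have h1 : X' ≤ Cfsg.pPrimeCore 2 A' := CfsgLib.PLocal.le_pPrimeCore hX'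
    have h2 : (Cfsg.pPrimeCore 2 B).map B.subtype ≤ Cfsg.oddCore G := by
      refine ih _ (Subgroup.map_subtype_le _) ?_ ?_
      · rintro b hb
        refine Subgroup.mem_normalizer_iff_map_conj_eq.mpr ?_
        have : (Cfsg.pPrimeCore 2 B).map (MulAut.conj (⟨b, hb⟩ : B)).toMonoidHom = Cfsg.pPrimeCore 2 B :=
          Subgroup.characteristic_iff_map_eq.mp inferInstance _
        conv_rhs => rw [← this]
        rw [Subgroup.map_map, Subgroup.map_map]
        rfl
      · rw [Subgroup.card_map_of_injective (Subgroup.subtype_injective _)]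
        exact Nat.coprime_two_right.1 (CfsgLib.PLocal.coprime_card_pPrimeCore 2 B)
    refine h2 ⟨⟨x, hle (hXA hx)⟩, ?_, rfl⟩
    have h3 : (Cfsg.pPrimeCore 2 A').map A'.subtype ≤ Cfsg.pPrimeCore 2 B := by
      rw [CfsgLib.PLocal.pPrimeCore_map_subtype_eq]
      exact inf_le_right
    exact h3 ⟨⟨⟨x, hle (hXA hx)⟩, hXA hx⟩, h1 hx, rfl⟩

namespace World

variable {H : Type u} [Group H] [Finite H] (W : World H)

/-- A subnormal subgroup generated by the conjugates of `t` in it, still covered by `D1`. -/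
theorem exists_gen : ∀ (K : Subgroup H), K.IsSubnormal → W.t ∈ K →
    (∀ g ∈ K, ∃ a ∈ W.D1 ⊓ K, g * W.t * g⁻¹ = a * W.t * a⁻¹) →
    ∃ M : Subgroup H, M.IsSubnormal ∧ W.t ∈ M ∧
      (∀ g ∈ M, ∃ a ∈ W.D1 ⊓ M, g * W.t * g⁻¹ = a * W.t * a⁻¹) ∧
      Subgroup.closure {x : H | ∃ g ∈ M, g * W.t * g⁻¹ = x} = M := by
  intro K
  induction K using WellFoundedLT.induction with
  | ind K ih => ?_
  intro hK ht hcov
  set K' := Subgroup.closure {x : H | ∃ g ∈ K, g * W.t * g⁻¹ = x} with hK'
  have hle : K' ≤ K := (Subgroup.closure_le K).2 fun x ⟨g, hg, hx⟩ =>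
    hx ▸ mul_mem (mul_mem hg ht) (inv_mem hg)
  rcases eq_or_lt_of_le hle with h | h
  · exact ⟨K, hK, ht, hcov, h⟩
  have hn : (K'.subgroupOf K).Normal := by
    refine ⟨fun n hn k => ?_⟩
    rw [Subgroup.mem_subgroupOf] at hn ⊢
    have key : ∀ y ∈ K', (k : H) * y * (k : H)⁻¹ ∈ K' := by
      intro y hy
      induction hy using Subgroup.closure_induction with
      | mem x hx =>
        obtain ⟨g, hg, rfl⟩ := hx
        exact Subgroup.subset_closure ⟨(k : H) * g, mul_mem k.2 hg, by group⟩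
      | one => simp
      | mul x y _ _ hx hy => simpa [mul_assoc] using mul_mem hx hy
      | inv x _ hx => simpa [mul_assoc] using inv_mem hx
    simpa using key _ hn
  have hK'sub : K'.IsSubnormal := Subgroup.IsSubnormal.step K' K hle hK hn
  have ht' : W.t ∈ K' := Subgroup.subset_closure ⟨1, one_mem K, by simp⟩
  refine ih K' h hK'sub ht' fun g hg => ?_
  obtain ⟨a, ha, hga⟩ := hcov g (hle hg)
  refine ⟨a, ⟨ha.1, ?_⟩, hga⟩
  -- the image of `a` in `K / K'` has order dividing two coprime numbers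
  have := hn
  have hc : a⁻¹ * g ∈ Subgroup.centralizer ({W.t} : Set H) := by
    rw [Subgroup.mem_centralizer_singleton_iff]
    calc a⁻¹ * g * W.t = a⁻¹ * (g * W.t * g⁻¹) * g := by group
      _ = W.t * (a⁻¹ * g) := by rw [hga]; group
  let q := QuotientGroup.mk' (K'.subgroupOf K)
  have e : q ⟨a, ha.2⟩ = (q ⟨a⁻¹ * g, mul_mem (inv_mem ha.2) (hle hg)⟩)⁻¹ := by
    rw [eq_inv_iff_mul_eq_one, ← map_mul, QuotientGroup.mk'_apply, QuotientGroup.eq_one_iff,
      Subgroup.mem_subgroupOf]
    simpa using hg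
  have h1 : orderOf (q ⟨a, ha.2⟩) ∣ Nat.card W.D1 :=
    (orderOf_map_dvd q _).trans (by rw [Subgroup.orderOf_mk]; exact Subgroup.orderOf_dvd_natCard _ ha.1)
  have h2 : orderOf (q ⟨a, ha.2⟩) ∣ Nat.card (Subgroup.centralizer ({W.t} : Set H)) := by
    rw [e, orderOf_inv]
    exact (orderOf_map_dvd q _).trans (by rw [Subgroup.orderOf_mk]; exact Subgroup.orderOf_dvd_natCard _ hc)
  have h3 := orderOf_eq_one_iff.1 (Nat.eq_one_of_dvd_coprimes W.coprime h1 h2)
  rwa [QuotientGroup.mk'_apply, QuotientGroup.eq_one_iff, Subgroup.mem_subgroupOf] at h3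

/-- The configuration inside a generated subnormal subgroup. -/
noncomputable def setup (M : Subgroup H) (ht : W.t ∈ M)
    (hcov : ∀ g ∈ M, ∃ a ∈ W.D1 ⊓ M, g * W.t * g⁻¹ = a * W.t * a⁻¹)
    (hgen : Subgroup.closure {x : H | ∃ g ∈ M, g * W.t * g⁻¹ = x} = M) : Setup M where
  t := ⟨W.t, ht⟩
  A := W.D1.subgroupOf M
  N := W.D.subgroupOf M
  ht := by rw [Subgroup.orderOf_mk]; exact W.ht
  comm a ha b hb := Subtype.ext (W.comm _ ha _ hb)
  le _ ha := W.le ha
  norm _ hn _ ha := W.norm _ hn _ ha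
  cover g := by
    obtain ⟨a, ha, h⟩ := hcov g g.2
    exact ⟨⟨a, ha.2⟩, ha.1, Subtype.ext h⟩
  free _ ha h := Subtype.ext (W.free _ ha (congrArg Subtype.val h))
  coprime := by
    refine Nat.Coprime.coprime_dvd_left ?_ (Nat.Coprime.coprime_dvd_right ?_ W.coprime)
    · rw [← Subgroup.card_map_of_injective (f := M.subtype) (Subgroup.subtype_injective M)]
      exact Subgroup.card_dvd_of_le fun x ⟨y, hy, hxy⟩ => hxy ▸ hy
    · rw [← Subgroup.card_map_of_injective (f := M.subtype) (Subgroup.subtype_injective M)]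
      refine Subgroup.card_dvd_of_le fun x ⟨y, hy, hxy⟩ => hxy ▸ ?_
      rw [Subgroup.mem_centralizer_singleton_iff]
      exact congrArg Subtype.val (Subgroup.mem_centralizer_singleton_iff.1 hy)
  odd := by
    refine Odd.of_dvd_nat W.odd ?_
    rw [← Subgroup.card_map_of_injective (f := M.subtype) (Subgroup.subtype_injective M)]
    exact Subgroup.card_dvd_of_le fun x ⟨y, hy, hxy⟩ => hxy ▸ hy
  ti x hx hx1 g hg := W.ti x hx (fun e => hx1 (Subtype.ext e)) g hg
  gen := by
    refine top_unique fun m _ => ?_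
    have hm : (m : H) ∈ (Subgroup.closure {x : M | ∃ g : M, g * (⟨W.t, ht⟩ : M) * g⁻¹ = x}).map M.subtype := by
      rw [MonoidHom.map_closure]
      have h2 : (m : H) ∈ Subgroup.closure {x : H | ∃ g ∈ M, g * W.t * g⁻¹ = x} := hgen.symm ▸ m.2
      refine Subgroup.closure_mono ?_ h2
      rintro x ⟨g, hg, rfl⟩
      exact ⟨_, ⟨⟨g, hg⟩, rfl⟩, rfl⟩
    obtain ⟨y, hy, hym⟩ := hm
    exact (Subtype.ext hym : y = m) ▸ hy

/-- **The end game (H3)**: `t` lies in `O_2(H)`. -/
theorem t_mem_pCore : W.t ∈ Cfsg.pCore 2 H := by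
  classical
  obtain ⟨M, hM, ht, hcov, hgen⟩ := W.exists_gen ⊤ Subgroup.IsSubnormal.top (Subgroup.mem_top _)
    fun g _ => (W.cover g).imp fun a h => ⟨⟨h.1, Subgroup.mem_top _⟩, h.2⟩
  let S := W.setup M ht hcov hgen
  have hfree : ∀ e : S.N, e ∈ S.E → e ≠ 1 → ∀ a : S.A, S.conjA e a = a → a = 1 := by
    intro e he he1 a ha
    by_contra ha1
    obtain ⟨g, h1, h2⟩ := S.exists_swap a
    refine W.noSwap _ a.2 (fun h => ha1 (Subtype.ext (Subtype.ext h))) _ e.2
      (fun h => he1 (Subtype.ext (Subtype.ext h))) (congrArg Subtype.val (S.mem_E.1 he)) ?_ ⟨g, ?_, ?_⟩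
    · exact mul_inv_eq_iff_eq_mul.1 (congrArg Subtype.val (congrArg Subtype.val ha))
    · exact congrArg Subtype.val (congrArg Subtype.val h1)
    · exact congrArg Subtype.val (congrArg Subtype.val h2)
  refine le_pCore_of_isSubnormal hM ?_ ht
  -- all conjugates of `t` in `M` commute with `t`, or none does
  by_cases hall : ∀ a : S.A, Commute (((a : M) : H) * W.t * ((a : M) : H)⁻¹) W.t
  · have hcomm : ∀ g ∈ M, ∀ k ∈ M, Commute (g * W.t * g⁻¹) (k * W.t * k⁻¹) := by
      intro g hg k hk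
      obtain ⟨a, ha, hga⟩ := hcov (k⁻¹ * g) (mul_mem (inv_mem hk) hg)
      have h := (hall ⟨⟨a, ha.2⟩, ha.1⟩).map (MulAut.conj k).toMonoidHom
      simp only [MulEquiv.coe_toMonoidHom, MulAut.conj_apply] at h
      rw [← hga] at h
      convert h using 1; all_goals group
    have hco : IsMulCommutative M := by
      rw [← hgen]
      refine Subgroup.isMulCommutative_closure ?_
      rintro x ⟨g, hg, rfl⟩ y ⟨k, hk, rfl⟩
      exact hcomm g hg k hk
    refine fun m => ⟨1, Subtype.ext ?_⟩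
    rw [pow_one, Subgroup.coe_pow, Subgroup.coe_one, pow_two]
    suffices ∀ x ∈ Subgroup.closure {x : H | ∃ g ∈ M, g * W.t * g⁻¹ = x}, x * x = 1 from
      this _ (hgen.symm ▸ m.2)
    intro x hx
    induction hx using Subgroup.closure_induction with
    | mem x hx =>
      obtain ⟨g, -, rfl⟩ := hx
      have := pow_orderOf_eq_one W.t
      rw [W.ht, pow_two] at this
      calc g * W.t * g⁻¹ * (g * W.t * g⁻¹) = g * (W.t * W.t) * g⁻¹ := by group
        _ = 1 := by rw [this]; group
    | one => simp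
    | mul x y hx hy ihx ihy =>
      have hxy : x * y = y * x := congrArg Subtype.val
        (hco.is_comm.comm (⟨x, hgen.le hx⟩ : M) ⟨y, hgen.le hy⟩)
      calc x * y * (x * y) = x * (y * x) * y := by group
        _ = x * (x * y) * y := by rw [hxy]
        _ = x * x * (y * y) := by group
        _ = 1 := by rw [ihx, ihy, mul_one]
    | inv x _ ihx => rw [← mul_inv_rev, ihx, inv_one]
  · exfalso
    push Not at hall
    obtain ⟨a₀, ha₀⟩ := hall
    have ha₀1 : a₀ ≠ 1 := fun h => ha₀ (by subst h; simp)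
    have hnone : ∀ a : S.A, a ≠ 1 → ¬ Commute (((a : M) : H) * W.t * ((a : M) : H)⁻¹) W.t := by
      intro a ha1 hc
      obtain ⟨g, h1, h2⟩ := S.exists_transitive hfree a a₀ ha1 ha₀1
      refine ha₀ ?_
      have e1 : (g : H) * W.t * (g : H)⁻¹ = W.t := congrArg Subtype.val (congrArg Subtype.val h1)
      have e2 : (g : H) * (((a : M) : H) * W.t * ((a : M) : H)⁻¹) * (g : H)⁻¹ =
          ((a₀ : M) : H) * W.t * ((a₀ : M) : H)⁻¹ := congrArg Subtype.val (congrArg Subtype.val h2)
      have h := hc.map (MulAut.conj (g : H)).toMonoidHom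
      simp only [MulEquiv.coe_toMonoidHom, MulAut.conj_apply] at h
      rwa [e1, e2] at h
    have hiso : Cfsg.IsIsolatedInvolution (⟨W.t, ht⟩ : M) := by
      refine ⟨by rw [Subgroup.orderOf_mk]; exact W.ht, fun g hg => ?_⟩
      obtain ⟨a, ha⟩ := S.exists_A_smul ⟨g * ⟨W.t, ht⟩ * g⁻¹, g, rfl⟩
      by_cases ha1 : a = 1
      · subst ha1
        rw [Subgroup.coe_one, one_smul] at ha
        exact (congrArg Subtype.val ha).symm
      · refine absurd ?_ (hnone a ha1)
        have e : ((a : M) : H) * W.t * ((a : M) : H)⁻¹ = (g : H) * W.t * (g : H)⁻¹ :=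
          congrArg Subtype.val (congrArg Subtype.val ha)
        rw [e]
        exact (hg.map M.subtype).symm
    obtain ⟨N, hN, hodd, hcom⟩ := CfsgLib.ZStar.exists_oddNormal hiso
    have hNH : N.map M.subtype ≤ Cfsg.oddCore H := by
      refine le_oddCore_of_le_isSubnormal hM _ (Subgroup.map_subtype_le N) ?_ ?_
      · refine Subgroup.le_normalizer_iff.2 fun b hb x hx => ?_
        obtain ⟨y, hy, rfl⟩ := hx
        exact ⟨⟨b, hb⟩ * y * ⟨b, hb⟩⁻¹, hN.conj_mem y hy _, rfl⟩
      · rw [Subgroup.card_map_of_injective (Subgroup.subtype_injective _)]; exact hodd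
    refine hnone a₀ ha₀1 ?_
    have hv := hcom (a₀ : M)
    set v : H := W.t * ((a₀ : M) : H) * W.t⁻¹ * ((a₀ : M) : H)⁻¹ with hvdef
    have hv' : v ∈ Cfsg.oddCore H := hNH ⟨_, hv, rfl⟩
    have hc := W.core v hv'
    have htt : W.t * W.t = 1 := by
      have := pow_orderOf_eq_one W.t
      rwa [W.ht, pow_two] at this
    have hti : W.t⁻¹ = W.t := inv_eq_of_mul_eq_one_right htt
    -- `v = t·(a t a⁻¹)` commutes with `t`
    have e : ((a₀ : M) : H) * W.t * ((a₀ : M) : H)⁻¹ = W.t * v := by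
      rw [hvdef, ← mul_assoc, ← mul_assoc, ← mul_assoc, htt, one_mul, hti]
    rw [e]
    show W.t * v * W.t = W.t * (W.t * v)
    rw [mul_assoc, hc]

include W in
/-- All involutions of the point stabiliser commute, if they are conjugate to `t`: SHAPE. -/
theorem commute_involutions (fusion : ∀ u : H, orderOf u = 2 → ∃ g : H, g * W.t * g⁻¹ = u) (u v : H) (hu : orderOf u = 2) (hv : orderOf v = 2) : Commute u v := by
  classical
  set P := Cfsg.pCore 2 H with hP
  have : Fact (Nat.Prime 2) := ⟨Nat.prime_two⟩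
  have hall : ∀ w : H, orderOf w = 2 → w ∈ P := fun w hw => by
    obtain ⟨g, rfl⟩ := fusion w hw
    exact (inferInstance : P.Normal).conj_mem _ W.t_mem_pCore g
  have : Nontrivial P := ⟨⟨⟨W.t, W.t_mem_pCore⟩, 1, fun e => by
    have h := congrArg orderOf (congrArg Subtype.val e : W.t = 1)
    rw [W.ht, Subgroup.coe_one, orderOf_one] at h
    omega⟩⟩
  have hPp : IsPGroup 2 P := CfsgLib.PLocal.isPGroup_pCore 2 H
  have := hPp.center_nontrivial
  obtain ⟨z, hz⟩ : ∃ z : Subgroup.center P, orderOf z = 2 := by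
    refine exists_prime_orderOf_dvd_card' 2 ?_
    obtain ⟨k, hk⟩ := IsPGroup.iff_card.1 (hPp.to_subgroup (Subgroup.center P))
    rw [hk]
    refine dvd_pow_self _ fun hk0 => ?_
    rw [hk0, pow_zero] at hk
    exact absurd hk (Finite.one_lt_card (α := Subgroup.center P)).ne'
  obtain ⟨g, hg⟩ := fusion ((z : P) : H) (by rw [Subgroup.orderOf_coe, Subgroup.orderOf_coe]; exact hz)
  -- `t` is central in `P`
  have htc : ∀ p ∈ P, Commute W.t p := by
    intro p hp
    have hp' : g * p * g⁻¹ ∈ P := (inferInstance : P.Normal).conj_mem p hp g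
    have h1 : Commute ((z : P) : H) (g * p * g⁻¹) :=
      (congrArg Subtype.val (Subgroup.mem_center_iff.1 z.2 ⟨_, hp'⟩)).symm
    rw [← hg] at h1
    have h2 := h1.map (MulAut.conj g⁻¹).toMonoidHom
    simp only [MulEquiv.coe_toMonoidHom, MulAut.conj_apply] at h2
    convert h2 using 1 <;> group
  obtain ⟨k, rfl⟩ := fusion u hu
  have h3 := (htc _ ((inferInstance : P.Normal).conj_mem v (hall v hv) k⁻¹)).map (MulAut.conj k).toMonoidHom
  simp only [MulEquiv.coe_toMonoidHom, MulAut.conj_apply] at h3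
  convert h3 using 1 <;> group

end World

end CfsgLib.BenderHThree
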